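import Mathlib
import Cfsg.Agent.GpSp.Iso
import Cfsg.Agent.H905.MdR
import Cfsg.Agent.H921.SympDim
import Cfsg.Agent.LieClassical.SUBasic
import Cfsg.Agent.LieClassical.HermSiegel
import Cfsg.Agent.ClassicalGeometry.UnitGenTwo
import Cfsg.Agent.LieClassical.GUOrder
import Cfsg.Agent.ClassicalGeometry.GUBasic
import Cfsg.Agent.H905.MdL
import Cfsg.Agent.FastGrp
import Cfsg.Agent.Prune
set_option linter.all false
prune_inst 0x7fbeedf9ebbcafffdfff7e7fffdcdffdffb9bfffa6dff9cb7fe06bff2bdf7b80cdc57b8d8feb12fe1ef7c21410f87b53fbfffabfea6ffc7ffffddff41ffbfe0ffdf7b50851948c340fbc2ff703f07f8e7f3fffffffffffffffffffffffffffbeffbfffffffff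
open scoped Cfsg.Agent.FastGrp

-- part: H130/U4/Joint
section
/-!
# Joint eigenspaces of commuting operators of finite order (helper130)
-/

set_option autoImplicit false
set_option linter.unusedSectionVars false

namespace Cfsg.Agent.H130.U4

open Module

section Gen

variable {L : Type*} [Field L] {V : Type*} [AddCommGroup V] [Module L V] [FiniteDimensional L V] {κ : Type*}

/-- the joint eigenspaces -/
noncomputable def jt (A : κ → Module.End L V) (c : κ → L) : Submodule L V := ⨅ i, (A i).eigenspace (c i)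

theorem mem_jt {A : κ → Module.End L V} {c : κ → L} {v : V} : v ∈ jt A c ↔ ∀ i, A i v = c i • v := by
  rw [jt, Submodule.mem_iInf]
  exact forall_congr' fun i => Module.End.mem_eigenspace_iff

theorem maxGen_eq {f : Module.End L V} {n : ℕ} (hn : (n : L) ≠ 0) (hf : f ^ n = 1) (μ : L) :
    f.maxGenEigenspace μ = f.eigenspace μ := by
  have h1 : f.IsSemisimple := by
    refine Module.End.isSemisimple_of_squarefree_aeval_eq_zero (p := Polynomial.X ^ n - 1) ?_ ?_
    · exact (Polynomial.X_pow_sub_one_separable_iff.2 hn).squarefree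
    · simp [hf]
  exact h1.isFinitelySemisimple.maxGenEigenspace_eq_eigenspace μ

variable [IsAlgClosed L]

theorem jt_facts {A : κ → Module.End L V} (hc : ∀ i j, A i * A j = A j * A i) {n : ℕ} (hn : (n : L) ≠ 0)
    (hA : ∀ i, A i ^ n = 1) : iSupIndep (jt A) ∧ ⨆ c, jt A c = ⊤ := by
  have h1 : (fun c : κ → L => ⨅ i, (A i).maxGenEigenspace (c i)) = jt A := by
    funext c
    rw [jt]
    exact iInf_congr fun i => maxGen_eq hn (hA i) _
  have h2 : ∀ i j φ, Set.MapsTo (A i) ((A j).maxGenEigenspace φ) ((A j).maxGenEigenspace φ) := by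
    intro i j φ
    exact Module.End.mapsTo_maxGenEigenspace_of_comm (hc j i) φ
  constructor
  · rw [← h1]
    exact Module.End.independent_iInf_maxGenEigenspace_of_forall_mapsTo A h2
  · rw [← h1]
    exact Module.End.iSup_iInf_maxGenEigenspace_eq_top_of_forall_mapsTo A h2
      (fun i => Module.End.iSup_maxGenEigenspace_eq_top _)

/-! ### Involutions -/

/-- sign tuples -/
def sgt (L : Type*) [Field L] {κ : Type*} (b : κ → Bool) : κ → L := fun i => if b i then -1 else 1

theorem neg_ne_one (h2 : (2 : L) ≠ 0) : (-1 : L) ≠ 1 := by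
  intro h
  apply h2
  have : (1 : L) + 1 = 0 := by
    nth_rw 1 [← h]; ring
  rw [← this]; norm_num

theorem sgt_inj (h2 : (2 : L) ≠ 0) : Function.Injective (sgt L (κ := κ)) := by
  intro b b' h
  funext i
  have h1 := congrFun h i
  unfold sgt at h1
  have h3 := neg_ne_one (L := L) h2
  cases hb : b i <;> cases hb' : b' i <;> simp only [hb, hb', if_true, if_false, Bool.false_eq_true] at h1 ⊢
  · exact absurd h1.symm h3
  · exact absurd h1 h3

theorem jt_bot_or (A : κ → Module.End L V) (hA : ∀ i, A i * A i = 1) (c : κ → L) :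
    jt A c = ⊥ ∨ ∃ b : κ → Bool, c = sgt L b := by
  by_cases h : jt A c = ⊥
  · exact Or.inl h
  · right
    obtain ⟨v, hv, hv0⟩ := (Submodule.ne_bot_iff _).1 h
    rw [mem_jt] at hv
    have h1 : ∀ i, c i = 1 ∨ c i = -1 := by
      intro i
      have h3 : (A i * A i) v = (c i * c i) • v := by
        rw [Module.End.mul_apply, hv i, map_smul, hv i, smul_smul]
      rw [hA i, Module.End.one_apply] at h3
      have h4 : (c i * c i - 1) • v = 0 := by rw [sub_smul, one_smul, ← h3, sub_self]
      rcases smul_eq_zero.1 h4 with h5 | h5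
      · exact mul_self_eq_one_iff.1 (sub_eq_zero.1 h5)
      · exact absurd h5 hv0
    classical
    refine ⟨fun i => decide (c i ≠ 1), funext fun i => ?_⟩
    rcases h1 i with h3 | h3
    · simp [sgt, h3]
    · by_cases h4 : c i = 1
      · simp [sgt, h4]
      · simp only [sgt, h4, ne_eq, not_false_eq_true, decide_true, if_true]
        exact h3

theorem inv_facts (h2 : (2 : L) ≠ 0) {A : κ → Module.End L V} (hc : ∀ i j, A i * A j = A j * A i)
    (hA : ∀ i, A i * A i = 1) : iSupIndep (fun b : κ → Bool => jt A (sgt L b)) ∧ ⨆ b : κ → Bool, jt A (sgt L b) = ⊤ := by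
  obtain ⟨h1, h3⟩ := jt_facts hc (n := 2) (by exact_mod_cast h2) (fun i => by rw [pow_two, hA i])
  refine ⟨h1.comp (sgt_inj h2), ?_⟩
  rw [eq_top_iff, ← h3]
  refine iSup_le fun c => ?_
  rcases jt_bot_or A hA c with h4 | ⟨b, rfl⟩
  · rw [h4]; exact bot_le
  · exact le_iSup (fun b : κ → Bool => jt A (sgt L b)) b

theorem inv_sum [Fintype κ] [DecidableEq κ] (h2 : (2 : L) ≠ 0) {A : κ → Module.End L V}
    (hc : ∀ i j, A i * A j = A j * A i) (hA : ∀ i, A i * A i = 1) :
    finrank L V = ∑ b : κ → Bool, finrank L (jt A (sgt L b)) := by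
  obtain ⟨h1, h3⟩ := inv_facts h2 hc hA
  have h4 : DirectSum.IsInternal (fun b : κ → Bool => jt A (sgt L b)) :=
    (DirectSum.isInternal_submodule_iff_iSupIndep_and_iSup_eq_top _).2 ⟨h1, h3⟩
  rw [← Module.finrank_directSum]
  exact (LinearEquiv.ofBijective (DirectSum.coeLinearMap _) h4).finrank_eq.symm

/-- anticommuting pairs: the dimension is divisible by four -/
theorem four_dvd (h2 : (2 : L) ≠ 0) {X Y N M : Module.End L V} (hX : X * X = 1) (hY : Y * Y = 1) (hN : N * N = 1)
    (hM : M * M = 1) (hXY : X * Y = Y * X) (hNX : N * X = -(X * N)) (hNY : N * Y = Y * N) (hMX : M * X = X * M)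
    (hMY : M * Y = -(Y * M)) : 4 ∣ finrank L V := by
  have h1 := inv_sum h2 (A := ![X, Y]) (by
    intro i j
    (revert i j; simp only [hXY, _root_.Fin.forall_fin_succ, _root_.Nat.succ_eq_add_one, Nat.reduceAdd, Fin.isValue, _root_.Matrix.cons_val_zero, _root_.Matrix.cons_val_succ, _root_.Matrix.cons_val_fin_one, _root_.forall_const, _root_.and_self, _root_.implies_true])) (by
    intro i
    fin_cases i
    · exact hX
    · exact hY)
  -- conjugation
  have key : ∀ (Z : Module.End L V) (hZ : Z * Z = 1) (b b' : Fin 2 → Bool),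
      (∀ v, v ∈ jt ![X, Y] (sgt L b) → Z v ∈ jt ![X, Y] (sgt L b')) →
      finrank L (jt ![X, Y] (sgt L b)) ≤ finrank L (jt ![X, Y] (sgt L b')) := by
    intro Z hZ b b' h
    have hinj : Function.Injective Z := by
      intro u v huv
      have h3 : (Z * Z) u = (Z * Z) v := by rw [Module.End.mul_apply, Module.End.mul_apply, huv]
      rwa [hZ] at h3
    exact LinearMap.finrank_le_finrank_of_injective (f := Z.restrict h) (by
      intro u v huv
      exact Subtype.ext (hinj (congrArg Subtype.val huv)))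
  have hN' : ∀ v, N (X v) = -(X (N v)) := fun v => by
    have := LinearMap.congr_fun hNX v
    simpa using this
  have hNy : ∀ v, N (Y v) = Y (N v) := fun v => by
    have := LinearMap.congr_fun hNY v
    simpa using this
  have hM' : ∀ v, M (Y v) = -(Y (M v)) := fun v => by
    have := LinearMap.congr_fun hMY v
    simpa using this
  have hMx : ∀ v, M (X v) = X (M v) := fun v => by
    have := LinearMap.congr_fun hMX v
    simpa using this
  have kN : ∀ b : Fin 2 → Bool, ∀ v, v ∈ jt ![X, Y] (sgt L b) → N v ∈ jt ![X, Y] (sgt L ![!b 0, b 1]) := by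
    intro b v hv
    rw [mem_jt] at hv ⊢
    have e0 : X v = sgt L b 0 • v := hv 0
    have e1 : Y v = sgt L b 1 • v := hv 1
    intro i
    fin_cases i
    · change X (N v) = sgt L ![!b 0, b 1] 0 • N v
      have h3 := hN' v
      rw [e0, map_smul] at h3
      rw [← neg_eq_iff_eq_neg] at h3
      rw [← h3, ← neg_smul]
      congr 1
      simp only [sgt, Matrix.cons_val_zero]
      cases b 0 <;> simp
    · change Y (N v) = sgt L ![!b 0, b 1] 1 • N v
      rw [← hNy, e1, map_smul]
      rfl
  have kM : ∀ b : Fin 2 → Bool, ∀ v, v ∈ jt ![X, Y] (sgt L b) → M v ∈ jt ![X, Y] (sgt L ![b 0, !b 1]) := by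
    intro b v hv
    rw [mem_jt] at hv ⊢
    have e0 : X v = sgt L b 0 • v := hv 0
    have e1 : Y v = sgt L b 1 • v := hv 1
    intro i
    fin_cases i
    · change X (M v) = sgt L ![b 0, !b 1] 0 • M v
      rw [← hMx, e0, map_smul]
      rfl
    · change Y (M v) = sgt L ![b 0, !b 1] 1 • M v
      have h3 := hM' v
      rw [e1, map_smul] at h3
      rw [← neg_eq_iff_eq_neg] at h3
      rw [← h3, ← neg_smul]
      congr 1
      simp only [sgt, Matrix.cons_val_one]
      cases b 1 <;> simp
  have eN : ∀ b : Fin 2 → Bool, finrank L (jt ![X, Y] (sgt L b)) = finrank L (jt ![X, Y] (sgt L ![!b 0, b 1])) := by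
    intro b
    refine le_antisymm (key N hN _ _ (kN b)) ?_
    have h3 := key N hN _ _ (kN ![!b 0, b 1])
    have h4 : (![!(![!b 0, b 1] : Fin 2 → Bool) 0, (![!b 0, b 1] : Fin 2 → Bool) 1] : Fin 2 → Bool) = b := by
      funext i; fin_cases i <;> simp
    rwa [h4] at h3
  have eM : ∀ b : Fin 2 → Bool, finrank L (jt ![X, Y] (sgt L b)) = finrank L (jt ![X, Y] (sgt L ![b 0, !b 1])) := by
    intro b
    refine le_antisymm (key M hM _ _ (kM b)) ?_
    have h3 := key M hM _ _ (kM ![b 0, !b 1])
    have h4 : (![(![b 0, !b 1] : Fin 2 → Bool) 0, !(![b 0, !b 1] : Fin 2 → Bool) 1] : Fin 2 → Bool) = b := by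
      funext i; fin_cases i <;> simp
    rwa [h4] at h3
  have hall : ∀ b : Fin 2 → Bool, finrank L (jt ![X, Y] (sgt L b)) = finrank L (jt ![X, Y] (sgt L ![false, false])) := by
    intro b
    have hb : b = ![b 0, b 1] := by funext i; fin_cases i <;> rfl
    have a1 := eN ![false, false]
    have a2 := eM ![false, false]
    have a3 := eM ![true, false]
    simp only [Matrix.cons_val_zero, Matrix.cons_val_one] at a1 a2 a3
    rw [hb]
    cases b 0 <;> cases b 1
    · rfl
    · exact a2.symm
    · exact a1.symm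
    · exact (a1.trans a3).symm
  rw [Finset.sum_congr rfl (fun b _ => hall b), Finset.sum_const, Finset.card_univ, smul_eq_mul] at h1
  rw [h1]
  have : Fintype.card (Fin 2 → Bool) = 4 := by decide
  rw [this]
  exact Dvd.intro _ rfl

/-! ### alternating forms -/

theorem even_jt (h2 : (2 : L) ≠ 0) {A : κ → Module.End L V}
    (hc : ∀ i j, A i * A j = A j * A i) (hA : ∀ i, A i * A i = 1) (B : LinearMap.BilinForm L V) (hB : B.IsAlt)
    (hnd : ∀ u, (∀ v, B u v = 0) → u = 0) (hinv : ∀ i u v, B (A i u) (A i v) = B u v) (b : κ → Bool) :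
    Even (finrank L (jt A (sgt L b))) := by
  obtain ⟨-, htop⟩ := inv_facts h2 hc hA
  set U := jt A (sgt L b) with hU
  have horth : ∀ b' : κ → Bool, b ≠ b' → ∀ u ∈ U, ∀ v ∈ jt A (sgt L b'), B u v = 0 := by
    intro b' hb u hu v hv
    obtain ⟨i, hi⟩ := Function.ne_iff.1 hb
    rw [hU, mem_jt] at hu
    rw [mem_jt] at hv
    have h3 := hinv i u v
    rw [hu i, hv i] at h3
    simp only [map_smul, LinearMap.smul_apply, smul_eq_mul] at h3
    have h4 : sgt L b' i * sgt L b i = -1 := by
      unfold sgt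
      revert hi
      cases b i <;> cases b' i <;> simp
    have h5 : -(B u v) = B u v := by
      rw [← neg_one_mul, ← h4, mul_assoc]; exact h3
    have h6 : (2 : L) * B u v = 0 := by
      rw [two_mul]
      nth_rw 1 [← h5]
      ring
    rcases mul_eq_zero.1 h6 with h7 | h7
    · exact absurd h7 h2
    · exact h7
  have hnd' : ∀ u : U, (∀ v : U, B u v = 0) → u = 0 := by
    intro u hu
    apply Subtype.ext
    apply hnd
    have h3 : (⊤ : Submodule L V) ≤ LinearMap.ker (B u) := by
      rw [← htop]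
      refine iSup_le fun b' => ?_
      intro v hv
      rw [LinearMap.mem_ker]
      by_cases hbb : b = b'
      · subst hbb
        exact hu ⟨v, hv⟩
      · exact horth b' hbb u u.2 v hv
    intro v
    exact LinearMap.mem_ker.1 (h3 (Submodule.mem_top (x := v)))
  obtain ⟨k, hk⟩ := Cfsg.Agent.GpSp.Symp.even_of_nondeg (B.restrict U) (fun x => hB x) hnd'
  exact ⟨k, by rw [hk]; ring⟩

/-- the products -/
noncomputable def pr (A : Fin 4 → Module.End L V) (S : Fin 4 → Bool) : Module.End L V :=
  (if S 0 then A 0 else 1) * (if S 1 then A 1 else 1) * (if S 2 then A 2 else 1) * (if S 3 then A 3 else 1)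

/-- the parity -/
def par (S b : Fin 4 → Bool) : Bool := xor (xor (xor (S 0 && b 0) (S 1 && b 1)) (S 2 && b 2)) (S 3 && b 3)

theorem ite_apply_jt {A : Fin 4 → Module.End L V} {b : Fin 4 → Bool} {v : V} (hv : v ∈ jt A (sgt L b)) (s : Bool)
    (i : Fin 4) : (if s then A i else 1 : Module.End L V) v = (if (s && b i) then -1 else 1 : L) • v := by
  rw [mem_jt] at hv
  cases s
  · simp
  · simp only [if_true, Bool.true_and]
    exact hv i

theorem pr_apply {A : Fin 4 → Module.End L V} {b : Fin 4 → Bool} {v : V} (hv : v ∈ jt A (sgt L b))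
    (S : Fin 4 → Bool) : pr A S v = (if par S b then -1 else 1 : L) • v := by
  rw [pr, Module.End.mul_apply, ite_apply_jt hv, map_smul, Module.End.mul_apply, ite_apply_jt hv, map_smul,
    Module.End.mul_apply, ite_apply_jt hv, map_smul, ite_apply_jt hv, smul_smul, smul_smul, smul_smul]
  congr 1
  unfold par
  cases S 0 && b 0 <;> cases S 1 && b 1 <;> cases S 2 && b 2 <;> cases S 3 && b 3 <;> simp

theorem xor_aux : ∀ s0 s1 s2 s3 t0 t1 t2 t3 b0 b1 b2 b3 : Bool,
    xor (xor (xor ((xor s0 t0) && b0) ((xor s1 t1) && b1)) ((xor s2 t2) && b2)) ((xor s3 t3) && b3) =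
    xor (xor (xor (xor (s0 && b0) (s1 && b1)) (s2 && b2)) (s3 && b3))
      (xor (xor (xor (t0 && b0) (t1 && b1)) (t2 && b2)) (t3 && b3)) := by
  decide +kernel

theorem par_xor (S S' b : Fin 4 → Bool) : par (fun i => xor (S i) (S' i)) b = xor (par S b) (par S' b) :=
  xor_aux _ _ _ _ _ _ _ _ _ _ _ _

/-- four commuting involutions of a symplectic space of dimension six are dependent -/
theorem sixteen (h2 : (2 : L) ≠ 0) (hdim : finrank L V = 6) {A : Fin 4 → Module.End L V}
    (hc : ∀ i j, A i * A j = A j * A i) (hA : ∀ i, A i * A i = 1) (B : LinearMap.BilinForm L V) (hB : B.IsAlt)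
    (hnd : ∀ u, (∀ v, B u v = 0) → u = 0) (hinv : ∀ i u v, B (A i u) (A i v) = B u v) :
    ∃ T : Fin 4 → Bool, (∃ i, T i = true) ∧ pr A T = 1 := by
  classical
  have h1 := inv_sum h2 hc hA
  obtain ⟨-, htop⟩ := inv_facts h2 hc hA
  let N : Finset (Fin 4 → Bool) := Finset.univ.filter fun b => jt A (sgt L b) ≠ ⊥
  have hN : N.card ≤ 3 := by
    have h3 : ∑ b ∈ N, 2 ≤ ∑ b : Fin 4 → Bool, finrank L (jt A (sgt L b)) := by
      refine (Finset.sum_le_sum (g := fun b => finrank L (jt A (sgt L b))) fun b hb => ?_).trans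
        (Finset.sum_le_sum_of_subset (Finset.subset_univ N))
      have h4 : finrank L (jt A (sgt L b)) ≠ 0 := by
        rw [Ne, Submodule.finrank_eq_zero]
        exact (Finset.mem_filter.1 hb).2
      obtain ⟨k, hk⟩ := even_jt h2 hc hA B hB hnd hinv b
      omega
    rw [Finset.sum_const, smul_eq_mul, ← h1, hdim] at h3
    omega
  have hcard : Fintype.card (N → Bool) < Fintype.card (Fin 4 → Bool) := by
    rw [Fintype.card_fun, Fintype.card_fun, Fintype.card_bool, Fintype.card_coe, Fintype.card_fin]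
    exact Nat.pow_lt_pow_right (by norm_num) (by omega)
  obtain ⟨S, S', hne, hS⟩ := Fintype.exists_ne_map_eq_of_card_lt (fun S : Fin 4 → Bool => fun b : N => par S b) hcard
  refine ⟨fun i => xor (S i) (S' i), ?_, ?_⟩
  · obtain ⟨i, hi⟩ := Function.ne_iff.1 hne
    refine ⟨i, ?_⟩
    change xor (S i) (S' i) = true
    revert hi
    generalize S i = x
    generalize S' i = y
    cases x <;> cases y <;> simp
  have h5 : (⊤ : Submodule L V) ≤ LinearMap.ker (pr A (fun i => xor (S i) (S' i)) - 1) := by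
    rw [← htop]
    refine iSup_le fun b => ?_
    by_cases hb : jt A (sgt L b) = ⊥
    · rw [hb]; exact bot_le
    · intro v hv
      rw [LinearMap.mem_ker, LinearMap.sub_apply, pr_apply hv, par_xor]
      have h6 : par S b = par S' b := congrFun hS ⟨b, Finset.mem_filter.2 ⟨Finset.mem_univ _, hb⟩⟩
      rw [h6, Bool.xor_self]
      simp
  ext v
  have h6 := LinearMap.mem_ker.1 (h5 (Submodule.mem_top (x := v)))
  rw [LinearMap.sub_apply] at h6
  exact sub_eq_zero.1 h6

end Gen

end Cfsg.Agent.H130.U4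
end

-- part: H130/U4/Rep
section
/-!
# The representation over the algebraic closure (helper130)
-/

set_option autoImplicit false
set_option linter.unusedSectionVars false

namespace Cfsg.Agent.H130.U4

open Matrix Cfsg Cfsg.Geo Cfsg.Agent.H915.LD

universe u

variable {F : Type u} [Field F] {ι : Type} [Fintype ι] [DecidableEq ι] {P : Subgroup (GL ι F)}
  {G : Type*} [Group G]

/-- the representation over the algebraic closure -/
noncomputable def rp (φ : G →* GL ι F) : G →* Module.End (AlgebraicClosure F) (ι → AlgebraicClosure F) where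
  toFun g := Matrix.toLin' ((φ g : Matrix ι ι F).map (algebraMap F (AlgebraicClosure F)))
  map_one' := by
    rw [map_one, Units.val_one, Matrix.map_one _ (map_zero _) (map_one _), Matrix.toLin'_one]
    rfl
  map_mul' x y := by
    rw [map_mul, Units.val_mul, Matrix.map_mul, Matrix.toLin'_mul]
    rfl

theorem rp_apply (φ : G →* GL ι F) (g : G) (v : ι → AlgebraicClosure F) :
    rp φ g v = (φ g : Matrix ι ι F).map (algebraMap F (AlgebraicClosure F)) *ᵥ v := rfl

theorem rp_eq_one {φ : G →* GL ι F} {g : G} (h : rp φ g = 1) : φ g = 1 := by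
  have h1 : Matrix.toLin' ((φ g : Matrix ι ι F).map (algebraMap F (AlgebraicClosure F))) =
      Matrix.toLin' (1 : Matrix ι ι (AlgebraicClosure F)) := by
    rw [Matrix.toLin'_one]; exact h
  have h2 := Matrix.toLin'.injective h1
  apply Units.ext
  ext i j
  have h3 := congrFun (congrFun h2 i) j
  rw [Matrix.map_apply] at h3
  rw [Units.val_one]
  apply (algebraMap F (AlgebraicClosure F)).injective
  rw [h3]
  by_cases hij : i = j
  · subst hij; simp
  · simp [Matrix.one_apply_ne hij]

/-- a central element is a scalar -/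
theorem rp_scalar {φ : G →* GL ι F} (hφ : φ.range = P) (hP : ActsAbsolutelyIrreducibly (matrixSet P)) {z : G}
    (hz : ∀ g, z * g = g * z) : ∃ c : AlgebraicClosure F, rp φ z = c • 1 := by
  have hzP : φ z ∈ P := by rw [← hφ]; exact ⟨z, rfl⟩
  obtain ⟨c, hc⟩ := H921.center_scalar hP ⟨φ z, hzP⟩ (by
    rw [Subgroup.mem_center_iff]
    rintro ⟨g, hg⟩
    rw [← hφ] at hg
    obtain ⟨g, rfl⟩ := hg
    apply Subtype.ext
    change φ g * φ z = φ z * φ g
    rw [← map_mul, ← map_mul, hz])
  refine ⟨algebraMap F _ c, ?_⟩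
  ext1 i
  have hc' : (φ z : Matrix ι ι F) = c • 1 := hc
  ext1
  simp only [LinearMap.comp_apply]
  rw [rp_apply, hc']
  have : (c • (1 : Matrix ι ι F)).map (algebraMap F (AlgebraicClosure F)) =
      algebraMap F (AlgebraicClosure F) c • (1 : Matrix ι ι (AlgebraicClosure F)) := by
    ext i j
    by_cases hij : i = j
    · subst hij; simp
    · simp [Matrix.one_apply_ne hij]
  rw [this, Matrix.smul_mulVec, Matrix.one_mulVec]
  rfl

/-- an invariant form over the algebraic closure -/
theorem exists_form {φ : G →* GL ι F} (hφ : φ.range = P) (h : FixA P) :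
    ∃ B : LinearMap.BilinForm (AlgebraicClosure F) (ι → AlgebraicClosure F),
      (∀ u, (∀ v, B u v = 0) → u = 0) ∧ (∀ g u v, B (rp φ g u) (rp φ g v) = B u v) ∧ ∀ u v, B u v = -B v u := by
  obtain ⟨B, hskew, hdet, hfix⟩ := H151.Six.exists_skew h
  set B' : Matrix ι ι (AlgebraicClosure F) := B.map (algebraMap F (AlgebraicClosure F)) with hB'
  have hdet' : IsUnit B'.det := by
    have h1 : B'.det = algebraMap F (AlgebraicClosure F) B.det := (RingHom.map_det _ B).symm
    rw [h1]
    exact hdet.map _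
  have hskew' : B'ᵀ = -B' := by
    rw [hB', ← Matrix.transpose_map, hskew]
    ext i j
    simp only [_root_.Matrix.map_apply, _root_.Matrix.neg_apply, _root_.map_neg]
  refine ⟨Matrix.toBilin' B', ?_, ?_, ?_⟩
  · intro u hu
    have h1 : u ᵥ* B' = 0 := by
      funext i
      have h3 := hu (Pi.single i 1)
      rw [Matrix.toBilin'_apply', Matrix.dotProduct_mulVec, dotProduct_single_one] at h3
      exact h3
    have h2 : Function.Injective (fun w => w ᵥ* B') := Matrix.vecMul_injective_iff_isUnit.2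
      ((Matrix.isUnit_iff_isUnit_det _).2 hdet')
    apply h2
    simp only [h1, Matrix.zero_vecMul]
  · intro g u v
    rw [Matrix.toBilin'_apply', Matrix.toBilin'_apply', rp_apply, rp_apply, H151.Six.dot_mulVec_left,
      Matrix.mulVec_mulVec]
    have h1 := hfix (φ g) (by rw [← hφ]; exact ⟨g, rfl⟩)
    have h3 := congrArg (fun N : Matrix ι ι F => N.map (algebraMap F (AlgebraicClosure F))) h1
    rw [Matrix.map_mul, Matrix.map_mul, Matrix.transpose_map] at h3
    rw [h3]
  · intro u v
    rw [Matrix.toBilin'_apply', Matrix.toBilin'_apply']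
    have h2 : v ⬝ᵥ (B' *ᵥ u) = u ⬝ᵥ (B'ᵀ *ᵥ v) := by
      rw [Matrix.mulVec_transpose, Matrix.dotProduct_mulVec, dotProduct_comm]
    rw [h2, hskew', Matrix.neg_mulVec, dotProduct_neg, neg_neg]

end Cfsg.Agent.H130.U4
end

-- part: H130/U4/Mono
section
/-!
# Monomial elements of `SU₄(q)` (helper130)
-/

set_option autoImplicit false
set_option linter.unusedSectionVars false

namespace Cfsg.Agent.H130.U4

open Matrix Cfsg Cfsg.Agent.LieClassical.SUBasic Cfsg.Agent.LieClassical.HermSiegel

variable {K : Type*} [Field K] {q : ℕ}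

theorem su_ext {g h : SU 4 K q} (H : ∀ v, act g v = act h v) : g = h :=
  mat_injective (Matrix.mulVec_injective (funext H))

theorem act_suDiag (a : Fin 4 → K) (hd : ∏ i, a i = 1) (ha : ∀ i, a i ^ (q + 1) = 1) (v : Fin 4 → K) :
    act (suDiag q a hd ha) v = fun i => a i * v i := by
  funext i
  rw [act, mat, coe_suDiag, Matrix.mulVec_diagonal]

theorem act_suPerm (σ : Equiv.Perm (Fin 4)) (hσ : Equiv.Perm.sign σ = 1) (v : Fin 4 → K) :
    act (suPerm q σ hσ : SU 4 K q) v = fun i => v (σ i) := by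
  funext i
  rw [act, mat, coe_suPerm, Matrix.permMatrix_mulVec]
  rfl

section Odd

variable (hq : Odd q)
include hq

theorem neg_pow (i : ℤˣ) : (((i : ℤ) : K)) ^ (q + 1) = 1 := by
  obtain ⟨k, hk⟩ := hq
  rcases Int.units_eq_one_or i with rfl | rfl
  · simp
  · have : q + 1 = 2 * (k + 1) := by omega
    rw [this, pow_mul]; simp only [_root_.Units.val_neg, _root_.Units.val_one, _root_.Int.reduceNeg, _root_.Int.cast_neg, _root_.Int.cast_one, _root_.even_two, _root_.Even.neg_pow, _root_.one_pow]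

/-- the sign elements -/
def dg (s : Fin 4 → ℤˣ) (hs : ∏ i, s i = 1) : SU 4 K q :=
  suDiag q (fun i => ((s i : ℤ) : K)) (by
    have h1 : ((∏ i, s i : ℤˣ) : ℤ) = 1 := by rw [hs]; rfl
    rw [Units.coe_prod] at h1
    exact_mod_cast congrArg (Int.cast : ℤ → K) h1) (fun i => neg_pow hq (s i))

theorem act_dg (s : Fin 4 → ℤˣ) (hs : ∏ i, s i = 1) (v : Fin 4 → K) :
    act (dg hq s hs) v = fun i => ((s i : ℤ) : K) * v i := act_suDiag _ _ _ _

/-- minus one -/
def ng : SU 4 K q := dg hq (fun _ => -1) (by decide)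

theorem act_ng (v : Fin 4 → K) : act (ng hq : SU 4 K q) v = -v := by
  rw [ng, act_dg]
  funext i
  simp

theorem ng_comm (g : SU 4 K q) : ng hq * g = g * ng hq := by
  apply su_ext
  intro v
  rw [act_mul, act_mul, act_ng, act_ng, act, act, Matrix.mulVec_neg]

theorem ng_sq : (ng hq : SU 4 K q) * ng hq = 1 := by
  apply su_ext
  intro v
  rw [act_mul, act_ng, act_ng, neg_neg, act_one]

theorem ng_ne (h2 : (2 : K) ≠ 0) : (ng hq : SU 4 K q) ≠ 1 := by
  intro h
  have h1 := congrArg (fun g => act g (fun _ => (1 : K)) 0) h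
  simp only [act_ng, act_one, Pi.neg_apply] at h1
  apply h2
  have : (1 : K) + 1 = 0 := by
    nth_rw 1 [← h1]; ring
  rw [← this]; norm_num

/-- the four involutions -/
def xx : Fin 4 → SU 4 K q :=
  ![dg hq ![-1, -1, 1, 1] (by decide), dg hq ![-1, 1, -1, 1] (by decide),
    suPerm q (Equiv.swap 0 1 * Equiv.swap 2 3) (by decide), suPerm q (Equiv.swap 0 2 * Equiv.swap 1 3) (by decide)]

theorem act_xx (i : Fin 4) (v : Fin 4 → K) : act (xx hq i) v =
    (![![-v 0, -v 1, v 2, v 3], ![-v 0, v 1, -v 2, v 3], ![v 1, v 0, v 3, v 2], ![v 2, v 3, v 0, v 1]] :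
      Fin 4 → Fin 4 → K) i := by
  fin_cases i
  · change act (dg hq ![-1, -1, 1, 1] (by decide)) v = _
    rw [act_dg]
    funext j
    (revert j; simp only [_root_.Fin.forall_fin_succ, Fin.isValue, _root_.Fin.zero_eta, _root_.Matrix.cons_val', _root_.Matrix.cons_val_fin_one, _root_.Matrix.cons_val_zero, _root_.Units.val_neg, _root_.Units.val_one, Int.reduceNeg, _root_.Int.cast_neg, _root_.Int.cast_one, _root_.neg_mul, _root_.one_mul, _root_.Matrix.cons_val_succ, _root_.Fin.succ_zero_eq_one, _root_.Fin.succ_one_eq_two, Fin.reduceSucc, _root_.IsEmpty.forall_iff, _root_.and_self])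
  · change act (dg hq ![-1, 1, -1, 1] (by decide)) v = _
    rw [act_dg]
    funext j
    (revert j; simp only [_root_.Fin.forall_fin_succ, Fin.isValue, _root_.Fin.mk_one, _root_.Matrix.cons_val', _root_.Matrix.cons_val_fin_one, _root_.Matrix.cons_val_one, _root_.Matrix.cons_val_zero, _root_.Units.val_neg, _root_.Units.val_one, Int.reduceNeg, _root_.Int.cast_neg, _root_.Int.cast_one, _root_.neg_mul, _root_.one_mul, _root_.Matrix.cons_val_succ, _root_.Fin.succ_zero_eq_one, _root_.Fin.succ_one_eq_two, Fin.reduceSucc, _root_.IsEmpty.forall_iff, _root_.and_self])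
  · change act (suPerm q (Equiv.swap 0 1 * Equiv.swap 2 3) (by decide)) v = _
    rw [act_suPerm]
    funext j
    fin_cases j <;> rfl
  · change act (suPerm q (Equiv.swap 0 2 * Equiv.swap 1 3) (by decide)) v = _
    rw [act_suPerm]
    funext j
    fin_cases j <;> rfl

theorem xx_sq (i : Fin 4) : xx hq i * xx hq i = (1 : SU 4 K q) := by
  apply su_ext
  intro v
  rw [act_mul, act_one, act_xx, act_xx]
  funext j
  (revert i j; simp only [_root_.Fin.forall_fin_succ, Fin.isValue, _root_.Matrix.cons_val', _root_.Matrix.cons_val_zero, _root_.Matrix.cons_val_fin_one, _root_.Matrix.cons_val_one, _root_.Matrix.cons_val, _root_.Matrix.cons_val_succ, _root_.Fin.succ_zero_eq_one, _root_.Fin.succ_one_eq_two, Fin.reduceSucc, _root_.IsEmpty.forall_iff, _root_.and_true, _root_.neg_neg, _root_.and_self, _root_.implies_true])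

/-- the pairing -/
def pd (i j : Fin 4) : Bool := (i.1 + j.1 == 3)

theorem xx_comm (i j : Fin 4) : xx hq i * xx hq j = (if pd i j then ng hq else 1) * (xx hq j * xx hq i : SU 4 K q) := by
  apply su_ext
  intro v
  split_ifs with h
  · rw [act_mul, act_mul, act_mul, act_ng, act_xx, act_xx, act_xx, act_xx]
    funext k
    fin_cases i <;> fin_cases j <;> first
      | (exfalso; revert h; decide)
      | ((revert k; simp only [_root_.Fin.forall_fin_succ, Fin.isValue, Fin.reduceFinMk, _root_.Matrix.cons_val', _root_.Matrix.cons_val_zero, _root_.Matrix.cons_val_fin_one, _root_.Matrix.cons_val, _root_.Matrix.cons_val_one, _root_.Fin.zero_eta, _root_.neg_neg, _root_.Pi.neg_apply, _root_.Matrix.cons_val_succ, _root_.implies_true, _root_.and_self, _root_.Fin.mk_one]))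
  · rw [one_mul, act_mul, act_mul, act_xx, act_xx, act_xx, act_xx]
    funext k
    fin_cases i <;> fin_cases j <;> first
      | (exfalso; revert h; decide)
      | ((revert k; simp [_root_.Fin.forall_fin_succ]))

end Odd

end Cfsg.Agent.H130.U4
end

-- part: H130/U4/OddCase
section
/-!
# `SU₄(q)`, `q` odd, has no symplectic representation of degree six (helper130)
-/

set_option autoImplicit false
set_option linter.unusedSectionVars false

namespace Cfsg.Agent.H130.U4

open Matrix Cfsg Cfsg.Geo Cfsg.Agent.H915.LD Module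

universe u

variable {F : Type u} [Field F] {ι : Type} [Fintype ι] [DecidableEq ι] {P : Subgroup (GL ι F)}
  {K : Type*} [Field K] {q : ℕ}

/-- the products of the four involutions -/
def gT (hq : Odd q) (T : Fin 4 → Bool) : SU 4 K q :=
  (if T 0 then xx hq 0 else 1) * (if T 1 then xx hq 1 else 1) * (if T 2 then xx hq 2 else 1) *
    (if T 3 then xx hq 3 else 1)

theorem xx_ite (hq : Odd q) (i j : Fin 4) (t : Bool) : xx hq j * (if t then xx hq i else 1) =
    (if t && pd j i then ng hq else 1) * ((if t then xx hq i else 1) * xx hq j : SU 4 K q) := by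
  cases t
  · simp
  · simp only [if_true, Bool.true_and]
    exact xx_comm hq j i

theorem xx_gT (hq : Odd q) (T : Fin 4 → Bool) (j : Fin 4) (hj : T (Fin.rev j) = true) :
    (xx hq j * gT hq T : SU 4 K q) = ng hq * (gT hq T * xx hq j) := by
  have hc : ∀ (b : Bool) (g : SU 4 K q), (if b then ng hq else 1) * g = g * (if b then ng hq else 1 : SU 4 K q) := by
    intro b g
    cases b
    · simp
    · simp only [if_true]; exact ng_comm hq g
  unfold gT
  generalize h0 : (if T 0 then xx hq 0 else 1 : SU 4 K q) = a0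
  generalize h1 : (if T 1 then xx hq 1 else 1 : SU 4 K q) = a1
  generalize h2 : (if T 2 then xx hq 2 else 1 : SU 4 K q) = a2
  generalize h3 : (if T 3 then xx hq 3 else 1 : SU 4 K q) = a3
  have e0 := xx_ite (K := K) hq 0 j (T 0)
  have e1 := xx_ite (K := K) hq 1 j (T 1)
  have e2 := xx_ite (K := K) hq 2 j (T 2)
  have e3 := xx_ite (K := K) hq 3 j (T 3)
  rw [h0] at e0
  rw [h1] at e1
  rw [h2] at e2
  rw [h3] at e3
  have hpd : ∀ i j : Fin 4, pd j i = decide (i = Fin.rev j) := by decide
  rw [hpd] at e0 e1 e2 e3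
  have key : ∀ a b c d x : SU 4 K q, ∀ ba bb bc bd : Bool,
      x * a = (if ba then ng hq else 1) * (a * x) → x * b = (if bb then ng hq else 1) * (b * x) →
      x * c = (if bc then ng hq else 1) * (c * x) → x * d = (if bd then ng hq else 1) * (d * x) →
      x * (a * b * c * d) = (if ba then ng hq else 1) * (if bb then ng hq else 1) * (if bc then ng hq else 1) *
        (if bd then ng hq else 1) * (a * b * c * d * x) := by
    intro a b c d x ba bb bc bd ha hb hc' hd
    have := hc ba
    calc x * (a * b * c * d) = (x * a) * b * c * d := by group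
      _ = (if ba then ng hq else 1) * a * (x * b) * c * d := by rw [ha]; group
      _ = (if ba then ng hq else 1) * (a * (if bb then ng hq else 1)) * b * (x * c) * d := by rw [hb]; group
      _ = (if ba then ng hq else 1) * (if bb then ng hq else 1) * a * b * (x * c) * d := by
          rw [← hc bb]; group
      _ = (if ba then ng hq else 1) * (if bb then ng hq else 1) * ((a * b) * (if bc then ng hq else 1)) * c *
          (x * d) := by rw [hc']; group
      _ = (if ba then ng hq else 1) * (if bb then ng hq else 1) * (if bc then ng hq else 1) * (a * b * c) *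
          (x * d) := by rw [← hc bc]; group
      _ = (if ba then ng hq else 1) * (if bb then ng hq else 1) * (if bc then ng hq else 1) *
          ((a * b * c) * (if bd then ng hq else 1)) * d * x := by rw [hd]; group
      _ = _ := by rw [← hc bd]; group
  rw [key _ _ _ _ _ _ _ _ _ e0 e1 e2 e3]
  congr 1
  fin_cases j
  · have hj' : T 3 = true := hj
    simp [hj', Fin.rev]
  · have hj' : T 2 = true := hj
    simp only [hj', Fin.rev, _root_.Fin.isValue, _root_.Nat.reduceAdd, _root_.Nat.reduceSub, _root_.Fin.reduceFinMk, _root_.Fin.reduceEq, _root_.decide_false, _root_.Bool.and_false, _root_.Bool.false_eq_true, ↓ _root_.reduceIte, _root_.mul_one, _root_.decide_true, _root_.Bool.and_self, _root_.one_mul]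
  · have hj' : T 1 = true := hj
    simp [hj', Fin.rev]
  · have hj' : T 0 = true := hj
    simp [hj', Fin.rev]

theorem gT_not_mem (hq : Odd q) (h2 : (2 : K) ≠ 0) {T : Fin 4 → Bool} (hT : ∃ i, T i = true)
    (h : gT hq T ∈ Subgroup.center (SU 4 K q)) : False := by
  obtain ⟨i, hi⟩ := hT
  have h1 := xx_gT (K := K) hq T (Fin.rev i) (by rw [Fin.rev_rev]; exact hi)
  rw [Subgroup.mem_center_iff.1 h] at h1
  exact ng_ne hq h2 (mul_eq_right.1 h1.symm)

/-- **no symplectic representation of degree six in odd characteristic** -/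
theorem odd_not_fixA (hq : Odd q) (h2K : (2 : K) ≠ 0) (h2 : (2 : F) ≠ 0) {φ : SU 4 K q →* GL ι F} (hφ : φ.range = P)
    (hker : φ.ker ≤ Subgroup.center (SU 4 K q)) (hP : ActsAbsolutelyIrreducibly (matrixSet P))
    (hι : Fintype.card ι = 6) : ¬ FixA P := by
  intro hA
  have h2L : (2 : AlgebraicClosure F) ≠ 0 := by
    intro h
    apply h2
    apply (algebraMap F (AlgebraicClosure F)).injective
    rw [map_zero, ← h]
    exact map_ofNat _ 2
  have hdim : finrank (AlgebraicClosure F) (ι → AlgebraicClosure F) = 6 := by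
    rw [Module.finrank_fintype_fun_eq_card, hι]
  obtain ⟨c, hc⟩ := rp_scalar hφ hP (z := ng hq) (ng_comm hq)
  have hcc : c = 1 ∨ c = -1 := by
    have h1 : rp φ (ng hq) * rp φ (ng hq) = 1 := by rw [← map_mul, ng_sq, map_one]
    rw [hc, smul_mul_smul_comm, mul_one] at h1
    have hne : Nonempty ι := Fintype.card_pos_iff.1 (by omega)
    obtain ⟨i⟩ := hne
    have h3 := congrFun (LinearMap.congr_fun h1 (fun _ => (1 : AlgebraicClosure F))) i
    simp only [LinearMap.smul_apply, Module.End.one_apply, Pi.smul_apply, smul_eq_mul, mul_one] at h3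
    exact mul_self_eq_one_iff.1 h3
  have hmul : ∀ i j, rp φ (xx hq i) * rp φ (xx hq j) =
      (if pd i j then rp φ (ng hq) else 1) * (rp φ (xx hq j) * rp φ (xx hq i)) := by
    intro i j
    rw [← map_mul, xx_comm, map_mul, map_mul]
    split_ifs
    · rfl
    · rw [map_one]
  have hsq : ∀ i, rp φ (xx hq i) * rp φ (xx hq i) = 1 := by
    intro i
    rw [← map_mul, xx_sq, map_one]
  rcases hcc with rfl | rfl
  · -- `-1` acts trivially
    rw [one_smul] at hc
    have hcomm : ∀ i j, rp φ (xx hq i) * rp φ (xx hq j) = rp φ (xx hq j) * rp φ (xx hq i) := by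
      intro i j
      rw [hmul, hc]
      split_ifs <;> rw [one_mul]
    obtain ⟨B, hnd, hinv, hskew⟩ := exists_form hφ hA
    obtain ⟨T, hT, hT1⟩ := sixteen h2L hdim (A := fun i => rp φ (xx hq i)) hcomm hsq B (by
      intro u
      have h1 := hskew u u
      have h3 : (2 : AlgebraicClosure F) * B u u = 0 := by
        rw [two_mul]
        nth_rw 1 [h1]
        ring
      rcases mul_eq_zero.1 h3 with h4 | h4
      · exact absurd h4 h2L
      · exact h4) hnd (fun i u v => hinv _ u v)
    have h1 : rp φ (gT hq T) = 1 := by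
      rw [← hT1, pr, gT, map_mul, map_mul, map_mul]
      simp only [apply_ite (rp φ), map_one]
    refine gT_not_mem hq h2K hT (hker ?_)
    rw [MonoidHom.mem_ker]
    exact rp_eq_one h1
  · -- `-1` acts as `-1`
    have hc' : ∀ X : Module.End (AlgebraicClosure F) (ι → AlgebraicClosure F), rp φ (ng hq) * X = -X := by
      intro X
      apply LinearMap.ext
      intro v
      rw [Module.End.mul_apply, hc, LinearMap.smul_apply, Module.End.one_apply, LinearMap.neg_apply]
      exact neg_one_smul _ _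
    have h4 := four_dvd h2L (X := rp φ (xx hq 0)) (Y := rp φ (xx hq 1)) (N := rp φ (xx hq 3))
      (M := rp φ (xx hq 2)) (hsq _) (hsq _) (hsq _) (hsq _)
      (by rw [hmul, if_neg (by decide), one_mul]) (by rw [hmul, if_pos (by decide), hc']) (by rw [hmul, if_neg (by decide), one_mul]) (by rw [hmul, if_neg (by decide), one_mul])
      (by rw [hmul, if_pos (by decide), hc'])
    rw [hdim] at h4
    omega

end Cfsg.Agent.H130.U4
end

-- part: H130/U4/EvenEl
section
/-!
# The elements `diag(a, .., a⁻³, .., a)` of `SU₄(q)` (helper130)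
-/

set_option autoImplicit false
set_option linter.unusedSectionVars false

namespace Cfsg.Agent.H130.U4

open Matrix Cfsg Cfsg.Agent.LieClassical.SUBasic Cfsg.Agent.LieClassical.HermSiegel Cfsg.Agent.LieClassical.HermBasic

variable {K : Type*} [Field K] {q : ℕ}

theorem a_ne {a : K} (ha : a ^ (q + 1) = 1) : a ≠ 0 := by
  rintro rfl
  rw [pow_succ, mul_zero] at ha
  exact zero_ne_one ha

/-- the diagonal entries -/
def dz (a : K) (i j : Fin 4) : K := if j = i then (a ^ 3)⁻¹ else a

/-- the elements -/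
def zz {a : K} (ha : a ^ (q + 1) = 1) (i : Fin 4) : SU 4 K q :=
  suDiag q (dz a i) (by
    have h0 := a_ne ha
    (revert i; simp only [Fin.prod_univ_four, dz, _root_.Fin.forall_fin_succ, Fin.isValue, _root_.mul_ite, _root_.ite_mul, Fin.reduceEq, ↓reduceIte, _root_.one_ne_zero, _root_.Fin.succ_zero_eq_one, _root_.zero_ne_one, _root_.Fin.succ_one_eq_two, Fin.reduceSucc, _root_.IsEmpty.forall_iff, _root_.and_true]) <;> (repeat' with_reducible apply And.intro) <;> field_simp) (fun j => by
    unfold dz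
    split_ifs
    · rw [inv_pow, ← pow_mul, mul_comm, pow_mul, ha, one_pow, inv_one]
    · exact ha)

variable {a : K} (ha : a ^ (q + 1) = 1)

theorem act_zz (i : Fin 4) (v : Fin 4 → K) : act (zz ha i) v = fun j => dz a i j * v j := act_suDiag _ _ _ _

theorem zz_comm (i j : Fin 4) : zz ha i * zz ha j = zz ha j * zz ha i := by
  apply su_ext
  intro v
  rw [act_mul, act_mul, act_zz, act_zz, act_zz, act_zz]
  funext k
  ring

theorem zz_pow (i : Fin 4) (m : ℕ) (v : Fin 4 → K) : act (zz ha i ^ m) v = fun j => dz a i j ^ m * v j := by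
  induction m generalizing v with
  | zero => rw [pow_zero, act_one]; funext j; simp
  | succ m ih =>
    rw [pow_succ, act_mul, ih, act_zz]
    funext j
    ring

theorem zz_order (i : Fin 4) : zz ha i ^ (q + 1) = 1 := by
  apply su_ext
  intro v
  rw [zz_pow, act_one]
  funext j
  have h1 : dz a i j ^ (q + 1) = 1 := by
    unfold dz
    split_ifs
    · rw [inv_pow, ← pow_mul, mul_comm, pow_mul, ha, one_pow, inv_one]
    · exact ha
  rw [h1, one_mul]

theorem zz_prod : zz ha 0 * zz ha 1 * zz ha 2 * zz ha 3 = 1 := by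
  have h0 := a_ne ha
  apply su_ext
  intro v
  rw [act_mul, act_mul, act_mul, act_one, act_zz, act_zz, act_zz, act_zz]
  funext j
  fin_cases j <;> simp only [dz, _root_.Fin.zero_eta, _root_.Fin.isValue, ↓ _root_.reduceIte, _root_.zero_ne_one, _root_.Fin.reduceEq, _root_.Fin.mk_one, _root_.one_ne_zero, _root_.Fin.reduceFinMk] <;> field_simp

theorem zz_perm (σ : Equiv.Perm (Fin 4)) (hσ : Equiv.Perm.sign σ = 1) (k : Fin 4) :
    zz ha k * suPerm q σ hσ = suPerm q σ hσ * zz ha (σ k) := by
  apply su_ext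
  intro v
  rw [act_mul, act_mul, act_zz, act_suPerm, act_suPerm, act_zz]
  funext j
  change dz a k j * v (σ j) = dz a (σ k) (σ j) * v (σ j)
  congr 1
  unfold dz
  by_cases h : j = k
  · rw [if_pos h, if_pos (by rw [h])]
  · rw [if_neg h, if_neg (fun h1 => h (σ.injective h1))]

theorem zz_not_center (hq : Odd (q + 1)) (ha1 : a ≠ 1) : zz ha 3 ∉ Subgroup.center (SU 4 K q) := by
  intro h
  have h0 := a_ne ha
  have h1 := zz_perm ha (Equiv.swap 0 3 * Equiv.swap 1 2) (by decide) 3
  rw [← Subgroup.mem_center_iff.1 h] at h1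
  have h2 := mul_left_cancel h1
  have h3 := congrArg (fun g => act g (fun _ => (1 : K)) 0) h2
  have h4 : (Equiv.swap (0 : Fin 4) 3 * Equiv.swap 1 2 : Equiv.Perm (Fin 4)) 3 = 0 := by decide
  simp only [act_zz, h4, dz, mul_one] at h3
  replace h3 : a = (a ^ 3)⁻¹ := by simpa using h3
  have h5 : a ^ 4 = 1 := by
    rw [pow_succ]
    nth_rw 2 [h3]
    exact mul_inv_cancel₀ (pow_ne_zero _ h0)
  apply ha1
  obtain ⟨k, hk⟩ := hq
  have h6 : (a ^ 4) ^ k * a ^ 2 = (a ^ (q + 1)) ^ 2 := by
    rw [← pow_mul, ← pow_add, ← pow_mul]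
    congr 1
    omega
  rw [h5, one_pow, one_mul, ha, one_pow] at h6
  have h7 : a ^ (q + 1) = a := by rw [hk, pow_succ, pow_mul, h6, one_pow, one_mul]
  rw [← h7, ha]

section Geo

variable [Fintype K] (hK : Fintype.card K = q ^ 2)
include hK

/-- the basis vector -/
def e3 (K : Type*) [Field K] : Fin 4 → K := Pi.single 3 1

theorem herm_e3 (v : Fin 4 → K) : hermForm 4 K q v (e3 K) = v 3 := by
  rw [e3, herm_single_right hK]
  simp

theorem act_zz3 (v : Fin 4 → K) :
    act (zz ha 3) v = a • v + (((a ^ 3)⁻¹ - a) * hermForm 4 K q v (e3 K)) • e3 K := by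
  rw [act_zz, herm_e3 hK]
  funext j
  by_cases hj : j = 3
  · subst hj
    simp only [dz, e3, _root_.Fin.isValue, ↓ _root_.reduceIte, _root_.Pi.add_apply, _root_.Pi.smul_apply, _root_.smul_eq_mul, _root_.Pi.single_eq_same, _root_.mul_one]
    ring
  · simp [dz, e3, hj]

theorem herm_act (g : SU 4 K q) (u v : Fin 4 → K) : hermForm 4 K q (act g u) (act g v) = hermForm 4 K q u v :=
  g.2 u v

theorem act_conj (g : SU 4 K q) (v : Fin 4 → K) :
    act (g * zz ha 3 * g⁻¹) v = a • v + (((a ^ 3)⁻¹ - a) * hermForm 4 K q v (act g (e3 K))) • act g (e3 K) := by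
  rw [act_mul, act_mul, act_zz3 ha hK, act_add, act_smul, act_smul, act_act_inv]
  have h1 : hermForm 4 K q (act g⁻¹ v) (e3 K) = hermForm 4 K q v (act g (e3 K)) := by
    rw [← herm_act hK g, act_act_inv]
  rw [h1]

theorem commute_of_orth (g h : SU 4 K q) (ho : hermForm 4 K q (act h (e3 K)) (act g (e3 K)) = 0) :
    Commute (h * zz ha 3 * h⁻¹) (g * zz ha 3 * g⁻¹) := by
  have ho' : hermForm 4 K q (act g (e3 K)) (act h (e3 K)) = 0 := herm_eq_zero_swap hK ho
  apply su_ext
  intro v
  rw [act_mul (h * zz ha 3 * h⁻¹), act_mul (g * zz ha 3 * g⁻¹), act_conj ha hK, act_conj ha hK, act_conj ha hK,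
    act_conj ha hK]
  simp only [herm_add_left, herm_smul_left, ho, ho', mul_zero, add_zero, smul_add, smul_smul]
  module

/-- `SU₄` is transitive on the vectors of norm one -/
theorem exists_act {v : Fin 4 → K} (hv : hermForm 4 K q v v = 1) : ∃ g : SU 4 K q, act g (e3 K) = v := by
  have he : hermForm 4 K q (e3 K) (e3 K) = 1 := by rw [herm_e3 hK, e3]; simp
  obtain ⟨A, hA⟩ := Cfsg.Agent.LieClassical.GUOrder.exists_gu_map hK he hv
  set M : Matrix (Fin 4) (Fin 4) K := ((A : GL (Fin 4) K) : Matrix (Fin 4) (Fin 4) K) with hM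
  have hMh : ∀ u w : Fin 4 → K, hermForm 4 K q (M *ᵥ u) (M *ᵥ w) = hermForm 4 K q u w := (mem_GU_iff _).1 A.2
  set d := M.det with hd
  have hdn : d ^ (q + 1) = 1 := ClassicalGeometry.GUBasic.det_pow hK hMh
  have hd0 : d ≠ 0 := a_ne hdn
  have hdiag : ∀ i, (![d⁻¹, 1, 1, 1] : Fin 4 → K) i * (![d⁻¹, 1, 1, 1] : Fin 4 → K) i ^ q = 1 := by
    intro i
    fin_cases i
    · simp only [Fin.zero_eta, cons_val_zero]
      rw [← pow_succ', inv_pow, hdn, inv_one]
    · simp
    · simp
    · simp
  have hDh : ∀ u w : Fin 4 → K, hermForm 4 K q (diagonal ![d⁻¹, 1, 1, 1] *ᵥ u) (diagonal ![d⁻¹, 1, 1, 1] *ᵥ w) =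
      hermForm 4 K q u w := by
    intro u w
    rw [herm_def, herm_def]
    refine Finset.sum_congr rfl fun i _ => ?_
    rw [Matrix.mulVec_diagonal, Matrix.mulVec_diagonal, mul_pow]
    linear_combination (u i * w i ^ q) * hdiag i
  have hdet : (M * diagonal ![d⁻¹, 1, 1, 1]).det = 1 := by
    rw [det_mul, det_diagonal, Fin.prod_univ_four, ← hd]
    simp [mul_inv_cancel₀ hd0]
  refine ⟨⟨⟨M * diagonal ![d⁻¹, 1, 1, 1], hdet⟩, ?_⟩, ?_⟩
  · intro u w
    change hermForm 4 K q ((M * diagonal ![d⁻¹, 1, 1, 1]) *ᵥ u) ((M * diagonal ![d⁻¹, 1, 1, 1]) *ᵥ w) = _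
    rw [← mulVec_mulVec, ← mulVec_mulVec, hMh, hDh]
  · show (M * diagonal ![d⁻¹, 1, 1, 1]) *ᵥ e3 K = v
    rw [← mulVec_mulVec]
    have h1 : diagonal ![d⁻¹, 1, 1, 1] *ᵥ e3 K = e3 K := by
      funext i
      rw [Matrix.mulVec_diagonal, e3]
      (revert i; simp only [_root_.Fin.forall_fin_succ, _root_.Nat.succ_eq_add_one, Nat.reduceAdd, Fin.isValue, _root_.Matrix.cons_val_zero, _root_.ne_eq, Fin.reduceEq, _root_.not_false_eq_true, _root_.Pi.single_eq_of_ne, _root_.MulZeroClass.mul_zero, _root_.Matrix.cons_val_succ, _root_.Fin.succ_zero_eq_one, _root_.Fin.succ_one_eq_two, _root_.Matrix.cons_val_fin_one, _root_.one_mul, _root_.implies_true, _root_.and_self])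
    rw [h1]
    exact hA

/-- connectivity -/
theorem conn (g : SU 4 K q) : ∃ h : SU 4 K q, Commute (h * zz ha 3 * h⁻¹) (zz ha 3) ∧
    Commute (h * zz ha 3 * h⁻¹) (g * zz ha 3 * g⁻¹) := by
  obtain ⟨s, hs3, hsv, hss⟩ := ClassicalGeometry.UnitGenTwo.exists_perp_norm_one hK (by norm_num : 3 ≤ 4) (act g (e3 K))
  obtain ⟨h, hh⟩ := exists_act hK hss
  refine ⟨h, ?_, ?_⟩
  · have h1 := commute_of_orth ha hK 1 h (by rw [hh, act_one, herm_e3 hK]; exact hs3 3 le_rfl)
    rwa [one_mul, inv_one, mul_one] at h1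
  · exact commute_of_orth ha hK g h (by rw [hh]; exact hsv)

end Geo

end Cfsg.Agent.H130.U4
end

-- part: H130/U4/Comb
section
/-!
# Sets of at most six four-tuples, closed under even permutations and inversion (helper130)
-/

set_option autoImplicit false
set_option linter.unusedSectionVars false

namespace Cfsg.Agent.H130.U4

open Equiv

theorem perm_aux : ∀ σ : Perm (Fin 4), Perm.sign σ = 1 → σ ≠ 1 → ∀ i j k : Fin 4, i ≠ j → i ≠ k → j ≠ k →
    ∃ m : Fin 4, (σ ^ (m : ℕ)) i = j ∨ (σ ^ (m : ℕ)) i = k ∨ (σ ^ (m : ℕ)) j = k := by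
  decide +kernel

theorem perm_pt : ∀ i j : Fin 4, ∃ σ : Perm (Fin 4), Perm.sign σ = 1 ∧ σ i = j := by
  decide +kernel

set_option synthInstance.maxHeartbeats 400000 in
set_option synthInstance.maxSize 2048 in
theorem perm_set : ∀ s t : Finset (Fin 4), s.card = 2 → t.card = 2 →
    ∃ σ : Perm (Fin 4), Perm.sign σ = 1 ∧ ∀ k, (k ∈ s ↔ σ k ∈ t) := by
  decide +kernel

theorem exists_other : ∀ i j : Fin 4, ∃ k, k ≠ i ∧ k ≠ j := by decide

variable {L : Type*} [Field L]

/-- the hypotheses -/
structure Cm (n : ℕ) (C : Set (Fin 4 → L)) : Prop where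
  fin : C.Finite
  card : C.ncard ≤ 6
  perm : ∀ c ∈ C, ∀ σ : Perm (Fin 4), Perm.sign σ = 1 → (fun i => c (σ i)) ∈ C
  inv : ∀ c ∈ C, (fun i => (c i)⁻¹) ∈ C
  prod : ∀ c ∈ C, ∏ i, c i = 1
  odd : ∀ c ∈ C, ∀ i, c i ^ n = 1
  n_odd : Odd n

namespace Cm

variable {n : ℕ} {C : Set (Fin 4 → L)} (h : Cm n C)
include h

theorem sq {x : L} (hx : x ^ n = 1) (hxx : x * x = 1) : x = 1 := by
  obtain ⟨k, hk⟩ := h.n_odd
  rw [hk, pow_succ, pow_mul, pow_two, hxx, one_pow, one_mul] at hx
  exact hx

theorem card_le {α : Type*} [Fintype α] (f : α → (Fin 4 → L)) (hf : ∀ x, f x ∈ C) (hinj : Function.Injective f) :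
    Fintype.card α ≤ 6 := by
  have h1 : (Set.range f).ncard ≤ C.ncard := Set.ncard_le_ncard (by rintro _ ⟨x, rfl⟩; exact hf x) h.fin
  rw [← Set.image_univ, Set.ncard_image_of_injective _ hinj, Set.ncard_univ, Nat.card_eq_fintype_card] at h1
  exact h1.trans h.card

/-- at most two values -/
theorem two {c : Fin 4 → L} (hc : c ∈ C) {i j k : Fin 4} (hij : i ≠ j) (hik : i ≠ k) (hjk : j ≠ k) :
    c i = c j ∨ c i = c k ∨ c j = c k := by
  by_contra hcon
  push Not at hcon
  have hinj : Function.Injective (fun σ : {σ : Perm (Fin 4) // Perm.sign σ = 1} => fun i => c (σ.1 i)) := by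
    intro σ τ hst
    by_contra hne
    have h1 : ∀ i, c (σ.1 i) = c (τ.1 i) := fun i => congrFun hst i
    have h2 : ∀ i, c ((σ.1 * τ.1⁻¹) i) = c i := by
      intro i
      rw [Perm.mul_apply, h1]
      exact congrArg c (τ.1.apply_symm_apply i)
    have h3 : ∀ m : ℕ, ∀ i, c (((σ.1 * τ.1⁻¹) ^ m) i) = c i := by
      intro m
      induction m with
      | zero => intro i; rfl
      | succ m ih => intro i; rw [pow_succ', Perm.mul_apply, h2, ih]
    obtain ⟨m, hm⟩ := perm_aux (σ.1 * τ.1⁻¹) (by rw [Perm.sign_mul, Perm.sign_inv, σ.2, τ.2]; rfl)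
      (by
        intro h4
        apply hne
        apply Subtype.ext
        exact mul_inv_eq_one.1 h4) i j k hij hik hjk
    rcases hm with hm | hm | hm
    · exact hcon.1 (by rw [← hm, h3])
    · exact hcon.2.1 (by rw [← hm, h3])
    · exact hcon.2.2 (by rw [← hm, h3])
  have h1 := h.card_le (fun σ : {σ : Perm (Fin 4) // Perm.sign σ = 1} => fun i => c (σ.1 i))
    (fun σ => h.perm c hc σ.1 σ.2) hinj
  have h2 : Fintype.card {σ : Perm (Fin 4) // Perm.sign σ = 1} = 12 := by decide +kernel
  omega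

/-- no pattern `(x, y, y, y)` -/
theorem no31 {c : Fin 4 → L} (hc : c ∈ C) {i0 : Fin 4} {x y : L} (hxy : x ≠ y) (hx : c i0 = x)
    (hy : ∀ j, j ≠ i0 → c j = y) : False := by
  have hcx : x ^ n = 1 := by rw [← hx]; exact h.odd c hc i0
  have hcy : y ^ n = 1 := by
    obtain ⟨j, hj, -⟩ := exists_other i0 i0
    rw [← hy j hj]; exact h.odd c hc j
  have hx0 : x ≠ 0 := by
    rintro rfl
    obtain ⟨k, hk⟩ := h.n_odd
    rw [hk, pow_succ, mul_zero] at hcx
    exact zero_ne_one hcx
  have hy0 : y ≠ 0 := by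
    rintro rfl
    obtain ⟨k, hk⟩ := h.n_odd
    rw [hk, pow_succ, mul_zero] at hcy
    exact zero_ne_one hcy
  have hyy : y⁻¹ ≠ y ∨ x = 1 ∨ y ≠ 1 := by
    by_cases hy1 : y = 1
    · right; left
      have hp := h.prod c hc
      have h1 : ∏ i, c i = x := by
        rw [← hx]
        refine Finset.prod_eq_single i0 (fun j _ hj => ?_) (fun h1 => absurd (Finset.mem_univ _) h1)
        rw [hy j hj, hy1]
      rw [← h1, hp]
    · right; right; exact hy1
  have hone : ∀ {w : L}, w ^ n = 1 → w ≠ 0 → w⁻¹ = w → w = 1 := by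
    intro w hw hw0 hww
    apply h.sq hw
    nth_rw 1 [← hww]
    exact inv_mul_cancel₀ hw0
  let f : Fin 4 × Bool → (Fin 4 → L) := fun p => if p.2 then Function.update (fun _ => y⁻¹) p.1 x⁻¹ else
    Function.update (fun _ => y) p.1 x
  have hmem : ∀ i, Function.update (fun _ => y) i x ∈ C := by
    intro i
    obtain ⟨σ, hσ, hi⟩ := perm_pt i i0
    have h1 := h.perm c hc σ hσ
    have h2 : (fun i => c (σ i)) = Function.update (fun _ => y) i x := by
      funext j
      by_cases hj : j = i
      · subst hj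
        rw [Function.update_self, hi, hx]
      · rw [Function.update_of_ne hj, hy]
        intro h3
        exact hj (σ.injective (h3.trans hi.symm))
    rwa [h2] at h1
  have hf : ∀ p, f p ∈ C := by
    rintro ⟨i, b⟩
    cases b
    · exact hmem i
    · have h1 := h.inv _ (hmem i)
      have h2 : (fun j => (Function.update (fun _ => y) i x j)⁻¹) = Function.update (fun _ => y⁻¹) i x⁻¹ := by
        funext j
        by_cases hj : j = i
        · subst hj
          rw [Function.update_self, Function.update_self]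
        · rw [Function.update_of_ne hj, Function.update_of_ne hj]
      rw [h2] at h1
      exact h1
  have key : ∀ i j : Fin 4, Function.update (fun _ : Fin 4 => y⁻¹) i x⁻¹ ≠ Function.update (fun _ : Fin 4 => y) j x := by
    intro i j hij
    obtain ⟨k, hki, hkj⟩ := exists_other i j
    have h1 := congrFun hij k
    rw [Function.update_of_ne hki, Function.update_of_ne hkj] at h1
    have hy1 := hone hcy hy0 h1
    have h2 := congrFun hij i
    rw [Function.update_self] at h2
    apply hxy
    by_cases hij' : i = j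
    · subst hij'
      rw [Function.update_self] at h2
      rw [hone hcx hx0 h2, hy1]
    · rw [Function.update_of_ne hij', hy1] at h2
      rw [hy1, ← inv_inv x, h2, inv_one]
  have hinj : Function.Injective f := by
    rintro ⟨i, b⟩ ⟨j, b'⟩ hij
    have inj1 : ∀ {u v : L}, u ≠ v → ∀ i j : Fin 4, Function.update (fun _ : Fin 4 => v) i u =
        Function.update (fun _ : Fin 4 => v) j u →
        i = j := by
      intro u v huv i j hij
      by_contra hne
      have h1 := congrFun hij i
      rw [Function.update_self, Function.update_of_ne hne] at h1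
      exact huv h1
    cases b <;> cases b'
    · rw [inj1 hxy i j hij]
    · exact absurd hij.symm (key j i)
    · exact absurd hij (key i j)
    · rw [inj1 (fun h1 => hxy (inv_injective h1)) i j hij]
  have h1 := h.card_le f hf hinj
  simp at h1

/-- the pattern `(x, x, y, y)` excludes the trivial tuple -/
theorem no22 {c : Fin 4 → L} (hc : c ∈ C) {s : Finset (Fin 4)} (hs : s.card = 2) {x y : L} (hxy : x ≠ y)
    (hcs : ∀ i, c i = if i ∈ s then x else y) (h1 : (fun _ => (1 : L)) ∈ C) : False := by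
  let f : Option {t : Finset (Fin 4) // t.card = 2} → (Fin 4 → L) := fun o => o.elim (fun _ => 1)
    (fun t => fun i => if i ∈ t.1 then x else y)
  have hf : ∀ o, f o ∈ C := by
    rintro (_ | ⟨t, ht⟩)
    · exact h1
    · obtain ⟨σ, hσ, hk⟩ := perm_set t s ht hs
      have h2 := h.perm c hc σ hσ
      have h3 : (fun i => c (σ i)) = fun i => if i ∈ t then x else y := by
        funext i
        rw [hcs]
        simp only [hk]
      rw [h3] at h2
      exact h2
  have hinj : Function.Injective f := by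
    rintro (_ | ⟨t, ht⟩) (_ | ⟨t', ht'⟩) hij
    · rfl
    · exfalso
      have h2 : ∀ i, (1 : L) = if i ∈ t' then x else y := fun i => congrFun hij i
      obtain ⟨i, hi⟩ : t'.Nonempty := by rw [← Finset.card_pos]; omega
      obtain ⟨k, hk⟩ : ∃ k, k ∉ t' := by
        by_contra hcon
        push Not at hcon
        have : t' = Finset.univ := by ext k; simp [hcon k]
        rw [this] at ht'
        simp at ht'
      have e1 := h2 i
      have e2 := h2 k
      rw [if_pos hi] at e1
      rw [if_neg hk] at e2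
      exact hxy (e1.symm.trans e2)
    · exfalso
      have h2 : ∀ i, (1 : L) = if i ∈ t then x else y := fun i => (congrFun hij i).symm
      obtain ⟨i, hi⟩ : t.Nonempty := by rw [← Finset.card_pos]; omega
      obtain ⟨k, hk⟩ : ∃ k, k ∉ t := by
        by_contra hcon
        push Not at hcon
        have : t = Finset.univ := by ext k; simp [hcon k]
        rw [this] at ht
        simp at ht
      have e1 := h2 i
      have e2 := h2 k
      rw [if_pos hi] at e1
      rw [if_neg hk] at e2
      exact hxy (e1.symm.trans e2)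
    · congr 1
      apply Subtype.ext
      ext i
      have h2 : (if i ∈ t then x else y) = if i ∈ t' then x else y := congrFun hij i
      change i ∈ t ↔ i ∈ t'
      by_cases hi : i ∈ t <;> by_cases hi' : i ∈ t'
      · simp [hi, hi']
      · rw [if_pos hi, if_neg hi'] at h2
        exact absurd h2 hxy
      · rw [if_neg hi, if_pos hi'] at h2
        exact absurd h2.symm hxy
      · simp [hi, hi']
  have h2 := h.card_le f hf hinj
  have h3 : Fintype.card (Option {t : Finset (Fin 4) // t.card = 2}) = 7 := by decide +kernel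
  omega

/-- non-trivial tuples have the pattern `(x, x, y, y)` with `x y = 1` -/
theorem pattern {c : Fin 4 → L} (hc : c ∈ C) (hne : ∃ i, c i ≠ 1) : ∃ (s : Finset (Fin 4)) (x y : L), s.card = 2 ∧
    x ≠ y ∧ x * y = 1 ∧ ∀ i, c i = if i ∈ s then x else y := by
  classical
  set x := c 3 with hx
  let s : Finset (Fin 4) := Finset.univ.filter fun i => c i = x
  have hs : ∀ i, i ∈ s ↔ c i = x := fun i => by simp [s]
  have hs3 : (3 : Fin 4) ∈ s := (hs 3).2 rfl
  have hxn : x ^ n = 1 := h.odd c hc 3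
  obtain ⟨j0, hj0⟩ : ∃ j, j ∉ s := by
    by_contra hcon
    push Not at hcon
    have h1 : ∀ i, c i = x := fun i => (hs i).1 (hcon i)
    have h2 := h.prod c hc
    rw [Finset.prod_congr rfl (fun i _ => h1 i), Finset.prod_const, Finset.card_univ, Fintype.card_fin] at h2
    have h3 : (x * x) * (x * x) = 1 := by rw [← h2]; ring
    have h4 : (x * x) ^ n = 1 := by rw [mul_pow, hxn, one_mul]
    have h5 := h.sq hxn (h.sq h4 h3)
    obtain ⟨i, hi⟩ := hne
    exact hi ((h1 i).trans h5)
  set y := c j0 with hy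
  have hxy : x ≠ y := fun h1 => hj0 ((hs j0).2 h1.symm)
  have hyn : y ^ n = 1 := h.odd c hc j0
  have hall : ∀ i, c i = if i ∈ s then x else y := by
    intro i
    split_ifs with hi
    · exact (hs i).1 hi
    · by_cases hij : i = j0
      · rw [hij]
      · have h3 : (3 : Fin 4) ≠ i := fun h1 => hi (h1 ▸ hs3)
        have h4 : (3 : Fin 4) ≠ j0 := fun h1 => hj0 (h1 ▸ hs3)
        rcases h.two hc h3 h4 hij with h5 | h5 | h5
        · exact absurd ((hs i).2 h5.symm) hi
        · exact absurd h5 hxy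
        · exact h5
  have hcard : s.card = 2 := by
    have h1 : 0 < s.card := Finset.card_pos.2 ⟨3, hs3⟩
    have h2 : s.card < 4 := by
      have : s.card < (Finset.univ : Finset (Fin 4)).card :=
        Finset.card_lt_card ⟨Finset.subset_univ _, fun h3 => hj0 (h3 (Finset.mem_univ _))⟩
      simpa using this
    have h3 : s.card ≠ 1 := by
      intro h3
      obtain ⟨i0, hi0⟩ := Finset.card_eq_one.1 h3
      refine h.no31 hc (i0 := i0) (x := x) (y := y) hxy ?_ ?_
      · rw [hall, if_pos (by rw [hi0]; exact Finset.mem_singleton_self _)]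
      · intro j hj
        rw [hall, if_neg (by rw [hi0]; simpa using hj)]
    have h4 : s.card ≠ 3 := by
      intro h4
      have h5 : sᶜ.card = 1 := by rw [Finset.card_compl, h4]; rfl
      obtain ⟨i0, hi0⟩ := Finset.card_eq_one.1 h5
      have h6 : ∀ j, j ∉ s ↔ j = i0 := by
        intro j
        rw [← Finset.mem_compl, hi0, Finset.mem_singleton]
      refine h.no31 hc (i0 := i0) (x := y) (y := x) hxy.symm ?_ ?_
      · rw [hall, if_neg ((h6 i0).2 rfl)]
      · intro j hj
        rw [hall, if_pos (by by_contra h7; exact hj ((h6 j).1 h7))]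
    omega
  refine ⟨s, x, y, hcard, hxy, ?_, hall⟩
  have h1 := h.prod c hc
  rw [Finset.prod_congr rfl (fun i _ => hall i), Finset.prod_ite, Finset.prod_const, Finset.prod_const] at h1
  have h2 : (Finset.univ.filter fun i => i ∈ s).card = 2 := by
    have : (Finset.univ.filter fun i => i ∈ s) = s := by ext i; simp
    rw [this, hcard]
  have h3 : (Finset.univ.filter fun i => i ∉ s).card = 2 := by
    have : (Finset.univ.filter fun i => i ∉ s) = sᶜ := by ext i; simp
    rw [this, Finset.card_compl, hcard]; rfl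
  rw [h2, h3] at h1
  refine h.sq (by rw [mul_pow, hxn, hyn, one_mul]) ?_
  rw [← h1]; ring

/-- **the result** -/
theorem ne_one (hne : ∃ c ∈ C, c 3 ≠ 1) : ∀ c ∈ C, c 3 ≠ 1 := by
  obtain ⟨c', hc', h3⟩ := hne
  obtain ⟨s, x, y, hs, hxy, -, hall⟩ := h.pattern hc' ⟨3, h3⟩
  have htriv : (fun _ => (1 : L)) ∉ C := fun h1 => h.no22 hc' hs hxy hall h1
  intro c hc hc3
  have hnt : ∃ i, c i ≠ 1 := by
    by_contra hcon
    push Not at hcon
    have : c = fun _ => 1 := funext hcon
    exact htriv (this ▸ hc)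
  obtain ⟨t, u, v, ht, huv, huv1, hall'⟩ := h.pattern hc hnt
  have h4 := hall' 3
  rw [hc3] at h4
  apply huv
  split_ifs at h4
  · rw [← h4, one_mul] at huv1
    rw [← h4, huv1]
  · rw [← h4, mul_one] at huv1
    rw [← h4, huv1]

end Cm

end Cfsg.Agent.H130.U4
end

-- part: H130/U4/Quad
section
/-!
# Invariant quadratic forms in characteristic two (helper130)

`φ : G → GL(ι, F)` preserves the alternating form `f`, `char F = 2`; `z ∈ G` has odd order, `φ z - 1` is surjective, and
any two conjugates of `z` commute with a third one. Then `G` preserves a quadratic form with polar form `f`.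
-/

set_option autoImplicit false
set_option linter.unusedSectionVars false

namespace Cfsg.Agent.H130.U4

open Matrix Cfsg Cfsg.Geo Cfsg.Agent.H915.LD

universe u

variable {F : Type u} [Field F] {ι : Type} [Fintype ι] [DecidableEq ι]

/-- quadratic forms with polar form `f` -/
structure QF (f : (ι → F) → (ι → F) → F) (Q : (ι → F) → F) : Prop where
  smul : ∀ (c : F) v, Q (c • v) = c ^ 2 * Q v
  add : ∀ u v, Q (u + v) = Q u + Q v + f u v

theorem exists_qf [CharP F 2] {f : (ι → F) → (ι → F) → F} (hf : IsSymplecticForm f) : ∃ Q, QF f Q := by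
  classical
  obtain ⟨B, hB⟩ := H151.Six.exists_gram hf.bilinear
  let e : ι ≃ Fin (Fintype.card ι) := Fintype.equivFin ι
  let U : Matrix ι ι F := fun i j => if e i < e j then B i j else 0
  have hbij : ∀ i j, f (Pi.single i 1) (Pi.single j 1) = B i j := by
    intro i j
    rw [hB, single_one_dotProduct, Matrix.mulVec_single_one]
    rfl
  have hUB : U + Uᵀ = B := by
    ext i j
    rw [Matrix.add_apply, Matrix.transpose_apply]
    by_cases hij : i = j
    · subst hij
      have h1 : B i i = 0 := by rw [← hbij]; exact hf.alternating _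
      simp [U, h1]
    · have h1 : e i ≠ e j := fun h => hij (e.injective h)
      have h2 : B j i = B i j := by
        rw [← hbij, ← hbij, hf.skew]
        exact CharTwo.neg_eq _
      rcases lt_or_gt_of_ne h1 with h3 | h3
      · simp only [U]
        rw [if_pos h3, if_neg (not_lt.2 h3.le), add_zero]
      · simp only [U]
        rw [if_neg (not_lt.2 h3.le), if_pos h3, zero_add, h2]
  refine ⟨fun v => v ⬝ᵥ (U *ᵥ v), ?_, ?_⟩
  · intro c v
    simp only [Matrix.mulVec_smul, smul_dotProduct, dotProduct_smul, smul_eq_mul]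
    ring
  · intro u v
    have h1 : v ⬝ᵥ (U *ᵥ u) = u ⬝ᵥ (Uᵀ *ᵥ v) := by
      rw [Matrix.mulVec_transpose, Matrix.dotProduct_mulVec, dotProduct_comm]
    have h2 : f u v = u ⬝ᵥ (U *ᵥ v) + v ⬝ᵥ (U *ᵥ u) := by
      rw [hB, ← hUB, Matrix.add_mulVec, dotProduct_add, h1]
    rw [h2, Matrix.mulVec_add, add_dotProduct, dotProduct_add, dotProduct_add]
    ring

variable {G : Type*} [Group G] {φ : G →* GL ι F} {f : (ι → F) → (ι → F) → F}

/-- the action -/
def ac (φ : G →* GL ι F) (g : G) (v : ι → F) : ι → F := (φ g : Matrix ι ι F) *ᵥ v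

theorem ac_mul (g h : G) (v : ι → F) : ac φ (g * h) v = ac φ g (ac φ h v) := by
  rw [ac, map_mul, Units.val_mul, ac, ac, Matrix.mulVec_mulVec]

theorem ac_one (v : ι → F) : ac φ 1 v = v := by
  rw [ac, map_one, Units.val_one, Matrix.one_mulVec]

theorem ac_add (g : G) (u v : ι → F) : ac φ g (u + v) = ac φ g u + ac φ g v := Matrix.mulVec_add _ _ _

theorem ac_smul (g : G) (c : F) (v : ι → F) : ac φ g (c • v) = c • ac φ g v := Matrix.mulVec_smul _ _ _

theorem QF.comp {Q : (ι → F) → F} (hQ : QF f Q) (hinv : ∀ g u v, f (ac φ g u) (ac φ g v) = f u v) (g : G) :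
    QF f (fun v => Q (ac φ g v)) :=
  ⟨fun c v => by simp only [ac_smul, hQ.smul], fun u v => by simp only [ac_add, hQ.add, hinv]⟩

theorem exists_fixed [CharP F 2] (hf : IsSymplecticForm f) (hinv : ∀ g u v, f (ac φ g u) (ac φ g v) = f u v) {z : G}
    {n : ℕ} (hn : Odd n) (hz : z ^ n = 1) : ∃ Q, QF f Q ∧ ∀ v, Q (ac φ z v) = Q v := by
  obtain ⟨Q, hQ⟩ := exists_qf hf
  refine ⟨fun v => ∑ k ∈ Finset.range n, Q (ac φ (z ^ k) v), ⟨?_, ?_⟩, ?_⟩
  · intro c v
    rw [Finset.mul_sum]
    exact Finset.sum_congr rfl fun k _ => (hQ.comp hinv (z ^ k)).smul c v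
  · intro u v
    have h1 : ∀ k, Q (ac φ (z ^ k) (u + v)) = Q (ac φ (z ^ k) u) + Q (ac φ (z ^ k) v) + f u v := fun k =>
      (hQ.comp hinv (z ^ k)).add u v
    simp only [h1, Finset.sum_add_distrib, Finset.sum_const, Finset.card_range]
    congr 1
    obtain ⟨k, hk⟩ := hn
    rw [hk, add_smul, one_smul, mul_comm, mul_smul, two_smul, CharTwo.add_self_eq_zero, smul_zero, zero_add]
  · intro v
    have h1 : ∀ k, Q (ac φ (z ^ k) (ac φ z v)) = Q (ac φ (z ^ (k + 1)) v) := fun k => by rw [← ac_mul, ← pow_succ]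
    simp only [h1]
    have h2 := Finset.sum_range_succ' (fun k => Q (ac φ (z ^ k) v)) n
    have h3 := Finset.sum_range_succ (fun k => Q (ac φ (z ^ k) v)) n
    rw [hz] at h3
    rw [pow_zero] at h2
    exact add_right_cancel (h2.symm.trans h3)

theorem qf_unique {Q Q' : (ι → F) → F} (hQ : QF f Q) (hQ' : QF f Q') {z : G}
    (hs : ∀ w, ∃ v, ac φ z v - v = w) (h : ∀ v, Q (ac φ z v) = Q v) (h' : ∀ v, Q' (ac φ z v) = Q' v) : Q = Q' := by
  funext w
  obtain ⟨v, hv⟩ := hs w
  have hadd : ∀ x y, Q (x + y) - Q' (x + y) = (Q x - Q' x) + (Q y - Q' y) := by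
    intro x y
    rw [hQ.add, hQ'.add]
    ring
  have h1 := hadd w v
  have h2 : w + v = ac φ z v := by rw [← hv]; abel
  rw [h2, h, h'] at h1
  have h3 : Q w - Q' w = 0 := by linear_combination -h1
  exact sub_eq_zero.1 h3

/-- **an invariant quadratic form** -/
theorem exists_invariant [CharP F 2] (hf : IsSymplecticForm f) (hinv : ∀ g u v, f (ac φ g u) (ac φ g v) = f u v)
    {z : G} {n : ℕ} (hn : Odd n) (hz : z ^ n = 1) (hs : ∀ w, ∃ v, ac φ z v - v = w)
    (hconn : ∀ g : G, ∃ h : G, Commute (h * z * h⁻¹) z ∧ Commute (h * z * h⁻¹) (g * z * g⁻¹)) :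
    ∃ Q, QF f Q ∧ ∀ g v, Q (ac φ g v) = Q v := by
  obtain ⟨Q, hQ, hQz⟩ := exists_fixed hf hinv hn hz
  refine ⟨Q, hQ, ?_⟩
  have star : ∀ h : G, Commute (h * z * h⁻¹) z → ∀ v, Q (ac φ h v) = Q v := by
    intro h hc
    -- `Q` is fixed by the conjugate
    have h1 : (fun v => Q (ac φ (h * z * h⁻¹) v)) = Q := by
      refine qf_unique (hQ.comp hinv _) hQ hs ?_ hQz
      intro v
      rw [← ac_mul, hc.eq, ac_mul, hQz]
    -- transport
    have h2 : (fun v => Q (ac φ h v)) = Q := by
      refine qf_unique (hQ.comp hinv _) hQ hs ?_ hQz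
      intro v
      have h3 : Q (ac φ (h * z * h⁻¹) (ac φ h v)) = Q (ac φ h v) := congrFun h1 (ac φ h v)
      rw [← ac_mul, inv_mul_cancel_right, ac_mul] at h3
      exact h3
    exact fun v => congrFun h2 v
  intro g v
  obtain ⟨h, hc, hcg⟩ := hconn g
  have h1 := star h hc
  have h2 := star (g⁻¹ * h) (by
    have h3 : g⁻¹ * h * z * (g⁻¹ * h)⁻¹ = g⁻¹ * (h * z * h⁻¹) * g := by group
    rw [h3]
    change g⁻¹ * (h * z * h⁻¹) * g * z = z * (g⁻¹ * (h * z * h⁻¹) * g)
    have h4 : (h * z * h⁻¹) * (g * z * g⁻¹) = (g * z * g⁻¹) * (h * z * h⁻¹) := hcg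
    calc g⁻¹ * (h * z * h⁻¹) * g * z = g⁻¹ * ((h * z * h⁻¹) * (g * z * g⁻¹)) * g := by group
      _ = g⁻¹ * ((g * z * g⁻¹) * (h * z * h⁻¹)) * g := by rw [h4]
      _ = _ := by group)
  -- `Q (g v) = Q (h⁻¹ g v)`-type identities
  have h3 : ∀ w, Q (ac φ g⁻¹ w) = Q w := by
    intro w
    have h5 := h2 (ac φ h⁻¹ w)
    rw [← ac_mul, mul_inv_cancel_right] at h5
    have h6 := h1 (ac φ h⁻¹ w)
    rw [← ac_mul, mul_inv_cancel, ac_one] at h6
    rw [h5, h6]
  have h4 := h3 (ac φ g v)
  rw [← ac_mul, inv_mul_cancel, ac_one] at h4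
  exact h4.symm

end Cfsg.Agent.H130.U4
end

-- part: H130/U4/Final
section
/-!
# `PSU₄(q)` in its own characteristic, self-dual of degree six (helper130)

**`u4_six`** : such a group fixes a non-degenerate quadratic form.
-/

set_option autoImplicit false
set_option linter.unusedSectionVars false

namespace Cfsg.Agent.H130.U4

open Matrix Cfsg Cfsg.Geo Cfsg.Agent.H915.LD Module Cfsg.Agent.LieClassical.SUBasic

universe u

variable {F : Type u} [Field F] {ι : Type} [Fintype ι] [DecidableEq ι] {P : Subgroup (GL ι F)}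
  {K : Type*} [Field K] {q : ℕ}

section Weights

variable {a : K} (ha : a ^ (q + 1) = 1) {φ : SU 4 K q →* GL ι F}

/-- the operators -/
noncomputable def Az (φ : SU 4 K q →* GL ι F) (i : Fin 4) : Module.End (AlgebraicClosure F) (ι → AlgebraicClosure F) :=
  rp φ (zz ha i)

theorem Az_comm (i j : Fin 4) : Az ha φ i * Az ha φ j = Az ha φ j * Az ha φ i := by
  rw [Az, Az, ← map_mul, ← map_mul, zz_comm]

theorem Az_pow (i : Fin 4) : Az ha φ i ^ (q + 1) = 1 := by
  rw [Az, ← map_pow, zz_order, map_one]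

/-- the tuples of eigenvalues -/
theorem cm (hq : Odd (q + 1)) (hqF : ((q + 1 : ℕ) : F) ≠ 0) (hφ : φ.range = P) (hA : FixA P)
    (hι : Fintype.card ι = 6) : Cm (q + 1) {c | jt (Az ha φ) c ≠ ⊥} := by
  have hqL : ((q + 1 : ℕ) : AlgebraicClosure F) ≠ 0 := by
    intro h
    apply hqF
    apply (algebraMap F (AlgebraicClosure F)).injective
    rw [map_zero, map_natCast, h]
  obtain ⟨hind, htop⟩ := jt_facts (Az_comm ha (φ := φ)) hqL (Az_pow ha)
  have hdim : finrank (AlgebraicClosure F) (ι → AlgebraicClosure F) = 6 := by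
    rw [Module.finrank_fintype_fun_eq_card, hι]
  have hft : Fintype {c // jt (Az ha φ) c ≠ ⊥} := iSupIndep.fintypeNeBotOfFiniteDimensional hind
  have hev : ∀ c, jt (Az ha φ) c ≠ ⊥ → ∃ v, v ≠ 0 ∧ ∀ i, Az ha φ i v = c i • v := by
    intro c hc
    obtain ⟨v, hv, hv0⟩ := (Submodule.ne_bot_iff _).1 hc
    exact ⟨v, hv0, mem_jt.1 hv⟩
  have hmem : ∀ c v, v ≠ 0 → (∀ i, Az ha φ i v = c i • v) → jt (Az ha φ) c ≠ ⊥ := fun c v hv0 hv =>
    (Submodule.ne_bot_iff _).2 ⟨v, mem_jt.2 hv, hv0⟩
  refine ⟨?_, ?_, ?_, ?_, ?_, ?_, hq⟩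
  · have h1 : Finite {c // jt (Az ha φ) c ≠ ⊥} := inferInstance
    exact h1
  · have h1 := hind.subtype_ne_bot_le_finrank
    rw [hdim, ← Nat.card_eq_fintype_card] at h1
    exact h1
  · intro c hc σ hσ
    obtain ⟨v, hv0, hv⟩ := hev c hc
    refine hmem _ (rp φ (suPerm q σ hσ) v) ?_ ?_
    · intro h0
      apply hv0
      have h1 : rp φ (suPerm q σ hσ)⁻¹ (rp φ (suPerm q σ hσ) v) = v := by
        rw [← Module.End.mul_apply, ← map_mul, inv_mul_cancel, map_one, Module.End.one_apply]
      rw [← h1, h0, map_zero]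
    · intro i
      rw [Az, ← Module.End.mul_apply, ← map_mul, zz_perm, map_mul, Module.End.mul_apply]
      have h1 := hv (σ i)
      rw [Az] at h1
      rw [h1, map_smul]
  · intro c hc
    obtain ⟨v, hv0, hv⟩ := hev c hc
    obtain ⟨B, hnd, hinv, -⟩ := exists_form hφ hA
    obtain ⟨c', v', hv', hB⟩ : ∃ c' v', v' ∈ jt (Az ha φ) c' ∧ B v v' ≠ 0 := by
      by_contra hcon
      push Not at hcon
      apply hv0
      apply hnd
      have h1 : (⊤ : Submodule (AlgebraicClosure F) (ι → AlgebraicClosure F)) ≤ LinearMap.ker (B v) := by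
        rw [← htop]
        exact iSup_le fun c' v' hv' => LinearMap.mem_ker.2 (hcon c' v' hv')
      intro w
      exact LinearMap.mem_ker.1 (h1 (Submodule.mem_top (x := w)))
    have hv'' := mem_jt.1 hv'
    have h1 : ∀ i, c' i = (c i)⁻¹ := by
      intro i
      have h2 := hinv (zz ha i) v v'
      have h3 : rp φ (zz ha i) v = c i • v := hv i
      have h4 : rp φ (zz ha i) v' = c' i • v' := hv'' i
      rw [h3, h4] at h2
      simp only [map_smul, LinearMap.smul_apply, smul_eq_mul] at h2
      have h5 : c' i * c i = 1 := by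
        have h6 : (c' i * c i - 1) * B v v' = 0 := by linear_combination h2
        rcases mul_eq_zero.1 h6 with h7 | h7
        · exact sub_eq_zero.1 h7
        · exact absurd h7 hB
      exact eq_inv_of_mul_eq_one_left h5
    have h2 : c' = fun i => (c i)⁻¹ := funext h1
    subst h2
    refine hmem _ v' ?_ hv''
    rintro rfl
    exact hB (map_zero _)
  · intro c hc
    obtain ⟨v, hv0, hv⟩ := hev c hc
    have h1 : Az ha φ 0 * Az ha φ 1 * Az ha φ 2 * Az ha φ 3 = 1 := by
      unfold Az
      rw [← map_mul, ← map_mul, ← map_mul, zz_prod, map_one]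
    have h2 := LinearMap.congr_fun h1 v
    rw [Module.End.mul_apply, hv, map_smul, Module.End.mul_apply, hv, map_smul, Module.End.mul_apply, hv, map_smul, hv,
      Module.End.one_apply, smul_smul, smul_smul, smul_smul] at h2
    rw [Fin.prod_univ_four]
    have h3 : (c 0 * c 1 * c 2 * c 3 - 1) • v = 0 := by
      have h5 : c 0 * c 1 * c 2 * c 3 = c 3 * c 2 * c 1 * c 0 := by ring
      rw [sub_smul, one_smul, h5, h2, sub_self]
    rcases smul_eq_zero.1 h3 with h4 | h4
    · exact sub_eq_zero.1 h4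
    · exact absurd h4 hv0
  · intro c hc i
    obtain ⟨v, hv0, hv⟩ := hev c hc
    have h1 : ∀ m : ℕ, (Az ha φ i ^ m) v = (c i ^ m) • v := by
      intro m
      induction m with
      | zero => simp
      | succ m ih => rw [pow_succ', Module.End.mul_apply, ih, map_smul, hv, smul_smul, pow_succ]
    have h2 := h1 (q + 1)
    rw [Az_pow, Module.End.one_apply] at h2
    have h3 : (c i ^ (q + 1) - 1) • v = 0 := by rw [sub_smul, one_smul, ← h2, sub_self]
    rcases smul_eq_zero.1 h3 with h4 | h4
    · exact sub_eq_zero.1 h4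
    · exact absurd h4 hv0

/-- `φ z - 1` is surjective -/
theorem surj (hq : Odd (q + 1)) (hqF : ((q + 1 : ℕ) : F) ≠ 0) (ha1 : a ≠ 1) (hφ : φ.range = P)
    (hker : φ.ker ≤ Subgroup.center (SU 4 K q)) (hA : FixA P) (hι : Fintype.card ι = 6) (w : ι → F) :
    ∃ v, ac φ (zz ha 3) v - v = w := by
  have hqL : ((q + 1 : ℕ) : AlgebraicClosure F) ≠ 0 := by
    intro h
    apply hqF
    apply (algebraMap F (AlgebraicClosure F)).injective
    rw [map_zero, map_natCast, h]
  obtain ⟨hind, htop⟩ := jt_facts (Az_comm ha (φ := φ)) hqL (Az_pow ha)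
  have hcm := cm ha hq hqF hφ hA hι
  have hne : ∃ c ∈ {c | jt (Az ha φ) c ≠ ⊥}, c 3 ≠ 1 := by
    by_contra hcon
    push Not at hcon
    have h1 : (⊤ : Submodule (AlgebraicClosure F) (ι → AlgebraicClosure F)) ≤ LinearMap.ker (Az ha φ 3 - 1) := by
      rw [← htop]
      refine iSup_le fun c => ?_
      by_cases hc : jt (Az ha φ) c = ⊥
      · rw [hc]; exact bot_le
      · intro v hv
        rw [LinearMap.mem_ker, LinearMap.sub_apply, mem_jt.1 hv 3, hcon c hc, one_smul, Module.End.one_apply, sub_self]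
    have h2 : rp φ (zz ha 3) = 1 := by
      apply LinearMap.ext
      intro v
      have h3 := LinearMap.mem_ker.1 (h1 (Submodule.mem_top (x := v)))
      rw [LinearMap.sub_apply] at h3
      exact sub_eq_zero.1 h3
    exact zz_not_center ha hq ha1 (hker (rp_eq_one h2))
  have hall := hcm.ne_one hne
  -- surjectivity over the algebraic closure
  have hs : Function.Surjective (Az ha φ 3 - 1 : Module.End (AlgebraicClosure F) (ι → AlgebraicClosure F)) := by
    rw [← LinearMap.range_eq_top, eq_top_iff, ← htop]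
    refine iSup_le fun c => ?_
    by_cases hc : jt (Az ha φ) c = ⊥
    · rw [hc]; exact bot_le
    · intro v hv
      have h1 : c 3 - 1 ≠ 0 := sub_ne_zero.2 (hall c hc)
      refine ⟨(c 3 - 1)⁻¹ • v, ?_⟩
      rw [map_smul, LinearMap.sub_apply, mem_jt.1 hv 3, Module.End.one_apply]
      have h2 : c 3 • v - v = (c 3 - 1) • v := by rw [sub_smul, one_smul]
      rw [h2, smul_smul, inv_mul_cancel₀ h1, one_smul]
  set M : Matrix ι ι F := (φ (zz ha 3) : Matrix ι ι F) - 1 with hM
  have h1 : Function.Surjective (fun v => (M.map (algebraMap F (AlgebraicClosure F))) *ᵥ v) := by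
    intro v
    obtain ⟨u, hu⟩ := hs v
    refine ⟨u, ?_⟩
    have h2 : M.map (algebraMap F (AlgebraicClosure F)) =
        (φ (zz ha 3) : Matrix ι ι F).map (algebraMap F (AlgebraicClosure F)) - 1 := by
      rw [hM, Matrix.map_sub _ (map_sub _), Matrix.map_one _ (map_zero _) (map_one _)]
    simp only [h2]
    rw [Matrix.sub_mulVec, Matrix.one_mulVec, ← hu]
    rfl
  have h2 := (Matrix.isUnit_iff_isUnit_det _).1 (Matrix.mulVec_surjective_iff_isUnit.1 h1)
  have h3 : (M.map (algebraMap F (AlgebraicClosure F))).det = algebraMap F (AlgebraicClosure F) M.det :=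
    (RingHom.map_det _ M).symm
  have h4 : IsUnit M.det := by
    rw [h3] at h2
    rw [isUnit_iff_ne_zero] at h2 ⊢
    intro h5
    apply h2
    rw [h5, map_zero]
  obtain ⟨v, hv⟩ := Matrix.mulVec_surjective_iff_isUnit.2 ((Matrix.isUnit_iff_isUnit_det _).2 h4) w
  refine ⟨v, ?_⟩
  rw [← hv, hM, Matrix.sub_mulVec, Matrix.one_mulVec]
  rfl

end Weights

/-- **in even characteristic** -/
theorem even_fixQ [CharP F 2] [Fintype K] (hK : Fintype.card K = q ^ 2) (hq : Even q) {φ : SU 4 K q →* GL ι F}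
    (hφ : φ.range = P) (hker : φ.ker ≤ Subgroup.center (SU 4 K q)) (hA : FixA P)
    (hι : Fintype.card ι = 6) : FixQ P := by
  obtain ⟨a, ha, ha1⟩ := LieClassical.SUBasic.exists_norm_one hK
  have hq' : Odd (q + 1) := hq.add_one
  have hqF : ((q + 1 : ℕ) : F) ≠ 0 := by
    obtain ⟨k, hk⟩ := hq'
    rw [hk]
    push_cast
    rw [CharTwo.two_eq_zero, zero_mul, zero_add]
    exact one_ne_zero
  have hsurj := surj ha hq' hqF ha1 hφ hker hA hι
  obtain ⟨f, hf, hfix⟩ := hA
  have hinv : ∀ g u v, f (ac φ g u) (ac φ g v) = f u v := by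
    intro g u v
    exact hfix _ ⟨φ g, by rw [← hφ]; exact ⟨g, rfl⟩, rfl⟩ u v
  obtain ⟨Q, hQ, hQinv⟩ := exists_invariant hf hinv hq' (zz_order ha 3) hsurj (fun g => conn ha hK g)
  have hpol : QuadraticMap.polar Q = f := by
    funext u v
    rw [QuadraticMap.polar, hQ.add]
    ring
  refine ⟨Q, ⟨hQ.smul, ?_, ?_⟩, ?_⟩
  · rw [hpol]; exact hf.bilinear
  · rw [hpol]; exact hf.nondegenerate
  · rintro _ ⟨g, hg, rfl⟩ v
    rw [← hφ] at hg
    obtain ⟨g, rfl⟩ := hg
    exact hQinv g v

/-- **`PSU₄(q)` in its own characteristic, self-dual of degree six, fixes a quadratic form** -/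
theorem u4_six [Finite F] (hC : Core P) (hSD : SD P) {p : ℕ} [hp : Fact p.Prime] [CharP F p] {K : Type} [Field K]
    [Fintype K] [CharP K p] {q : ℕ} (hK : Fintype.card K = q ^ 2) (e : Soc P ≃* PSU 4 K q)
    (hn : Fintype.card ι = 6) : FixQ P := by
  obtain ⟨φ, h1, h2, -⟩ := H905.Md.psu_cover p hC.perfect (by norm_num : 3 ≤ 4) hK (by omega) e
  rcases hC.forms_of_sd hSD with h | h
  · exact h
  · obtain ⟨k, -, hk⟩ := FiniteField.card K p
    by_cases hp2 : p = 2
    · subst hp2
      refine even_fixQ hK ?_ h1 h2 h hn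
      have h3 : Even (q ^ 2) := by
        rw [← hK, hk]
        exact (even_two).pow_of_ne_zero k.ne_zero
      rw [Nat.even_pow] at h3
      exact h3.1
    · exfalso
      have hodd : Odd q := by
        have h3 : Odd (q ^ 2) := by
          rw [← hK, hk]
          exact (hp.out.odd_of_ne_two hp2).pow
        exact Nat.not_even_iff_odd.1 fun h4 => (Nat.not_even_iff_odd.2 h3) (h4.pow_of_ne_zero (by norm_num))
      have h2F : (2 : F) ≠ 0 := by
        intro h4
        have h5 : ((2 : ℕ) : F) = 0 := by exact_mod_cast h4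
        rw [CharP.cast_eq_zero_iff F p] at h5
        exact hp2 ((Nat.prime_dvd_prime_iff_eq hp.out Nat.prime_two).1 h5)
      have h2K : (2 : K) ≠ 0 := by
        intro h4
        have h5 : ((2 : ℕ) : K) = 0 := by exact_mod_cast h4
        rw [CharP.cast_eq_zero_iff K p] at h5
        exact hp2 ((Nat.prime_dvd_prime_iff_eq hp.out Nat.prime_two).1 h5)
      exact odd_not_fixA hodd h2K h2F h1 h2 hC.absIrred hn h

end Cfsg.Agent.H130.U4
end

private theorem dce_ece48cffc2ef : _root_.True := by
  try have : _root_.True := by simp only [_root_.Cfsg.Agent.H130.U4.e3.eq_1]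
  try have : _root_.True := by simp only [_root_.Cfsg.Agent.H130.U4.zz.congr_simp]
  try have : _root_.True := by simp only [_root_.Cfsg.Agent.H130.U4.ac.eq_1]
  try have : _root_.True := by simp only [_root_.Cfsg.Agent.H130.U4.xx.congr_simp]
  try have : _root_.True := by simp only [_root_.Cfsg.Agent.H130.U4.ng.eq_1]
  try have : _root_.True := by simp only [_root_.Cfsg.Agent.H130.U4.Az.congr_simp]
  try have : _root_.True := by simp only [_root_.Cfsg.Agent.H130.U4.pr.eq_1]
  try have : _root_.True := by simp only [_root_.Cfsg.Agent.H130.U4.dz.eq_1]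
  try have : _root_.True := by simp only [_root_.Cfsg.Agent.H130.U4.gT.eq_1]
  try have : _root_.True := by simp only [_root_.Cfsg.Agent.H130.U4.sgt.eq_1]
  try have : _root_.True := by simp only [_root_.Cfsg.Agent.H130.U4.ng.congr_simp]
  try have : _root_.True := by simp only [_root_.Cfsg.Agent.H130.U4.jt.eq_1]
  try have : _root_.True := by simp only [_root_.Cfsg.Agent.H130.U4.Az.eq_1]
  exact _root_.True.intro
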